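import Groth.Agent.EtpbcA.P1Charts
import Groth.Agent.Sga4B.P1Curve441
import Groth.Agent.Sga4B.P1Genus682
import Groth.Agent.Sga5.ProjSmooth
import Groth.Prelude.Def_CurvBase

/-!
# `G_m` in the projective line

`jj : Spec K[T;T⁻¹] ⟶ P¹` is an open immersion with complement two closed points `pt 0`, `pt 1`; it is
`u i ≫ ch i`, where `ch i : Spec K[X] ⟶ P¹` are the charts (`ch i` contains the origin `pt i`), `u 0 : X ↦ T`, `u 1 : X ↦ T⁻¹`.
-/

set_option autoImplicit false
universe u
open CategoryTheory CategoryTheory.Limits AlgebraicGeometry Opposite Polynomial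
open scoped LaurentPolynomial

namespace Groth.Agent.Sga4h.H276.P1

open Groth.Agent.EtpbcA.P1Charts Groth.Agent.CycB.P1Chart Groth.Agent.CohqB.ProjBC

variable (K : Type u) [Field K]

/-- The projective line. -/
noncomputable abbrev C : Scheme.{u} := CohB1.ProjSpace 1 K

/-- The affine line. -/
noncomputable abbrev A : Scheme.{u} := Spec (CommRingCat.of K[X])

/-- The multiplicative group. -/
noncomputable abbrev Gm : Scheme.{u} := Spec (CommRingCat.of K[T;T⁻¹])

/-- The structure morphism of `P¹`. -/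
noncomputable abbrev str : C K ⟶ Spec (CommRingCat.of K) := CohB1.ProjSpace.toSpec 1 K

instance connectedSpace_C : ConnectedSpace (C K) := by
  have h : IsIntegral (C K) :=
    (Groth.Agent.Sga4B.P1Curve.isSmoothProperCurve_of_isPullback K (S := Spec (CommRingCat.of K))
    (a := (projSpaceOverIso 1 K).inv) (b := str K) (x := 𝟙 _)
    (IsPullback.of_horiz_isIso ⟨by rw [projSpaceOverIso_inv_toBase, Category.comp_id]⟩)).2.2.1
  infer_instance

instance smooth_str : SmoothOfRelativeDimension 1 (str K) := Groth.Agent.Sga5.ProjSmooth.smooth_toSpec 1 K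

instance proper_str : IsProper (str K) := inferInstance

theorem genus_C : letI : (C K).Over (Spec (CommRingCat.of K)) := ⟨str K⟩
    Curv2.genus K (C K) = 0 := by
  have : Subsingleton (Coh.HH (CohB1.ProjSpace 1 K) (Coh.structureModule _) 1) :=
    Groth.Agent.Sga4B.P1Genus682.subsingleton_HH_one K
  exact Module.finrank_zero_of_subsingleton

/-- The charts. -/
noncomputable def ch (i : Fin (1 + 1)) : A K ⟶ C K :=
  (chart i (CommRingCat.of K) : AA (CommRingCat.of K) ⟶ PP (CommRingCat.of K)) ≫ (projSpaceOverIso 1 K).hom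

instance (i : Fin (1 + 1)) : IsOpenImmersion (ch K i) := by
  unfold ch
  infer_instance

theorem ch_str (i : Fin (1 + 1)) : ch K i ≫ str K = Spec.map (CommRingCat.ofHom (Polynomial.C : K →+* K[X])) := by
  rw [ch, Category.assoc, projSpaceOverIso_hom_toSpec]
  exact chart_toB i _

/-- The coordinates. -/
noncomputable def ur : Fin (1 + 1) → (K[X] →+* K[T;T⁻¹])
  | 0 => Polynomial.toLaurent
  | 1 => (LaurentPolynomial.invert : K[T;T⁻¹] ≃ₐ[K] K[T;T⁻¹]).toRingEquiv.toRingHom.comp Polynomial.toLaurent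

/-- The coordinates. -/
noncomputable def u (i : Fin (1 + 1)) : Gm K ⟶ A K := Spec.map (CommRingCat.ofHom (ur K i))

theorem u_zero : u K 0 = Spec.map (CommRingCat.ofHom (Polynomial.toLaurent : K[X] →+* K[T;T⁻¹])) := rfl

instance isOpenImmersion_u0 : IsOpenImmersion (u K 0) :=
  IsOpenImmersion.of_isLocalization (S := K[T;T⁻¹]) (X : K[X])

theorem range_u0 : Set.range (u K 0) = {w : A K | (X : K[X]) ∉ w.asIdeal} :=
  PrimeSpectrum.localization_away_comap_range K[T;T⁻¹] (X : K[X])

/-- The inversion of `G_m`. -/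
noncomputable def inv : Gm K ⟶ Gm K :=
  Spec.map (CommRingCat.ofHom (LaurentPolynomial.invert : K[T;T⁻¹] ≃ₐ[K] K[T;T⁻¹]).toRingEquiv.toRingHom)

instance : IsIso (inv K) := by
  unfold inv
  have : IsIso (CommRingCat.ofHom (LaurentPolynomial.invert : K[T;T⁻¹] ≃ₐ[K] K[T;T⁻¹]).toRingEquiv.toRingHom) :=
    (ConcreteCategory.isIso_iff_bijective _).2 (LaurentPolynomial.invert : K[T;T⁻¹] ≃ₐ[K] K[T;T⁻¹]).bijective
  infer_instance

theorem u_one : u K 1 = inv K ≫ u K 0 := by
  rw [inv, u, u, ← Spec.map_comp]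
  rfl

instance isOpenImmersion_u (i : Fin (1 + 1)) : IsOpenImmersion (u K i) := by
  fin_cases i
  · exact isOpenImmersion_u0 K
  · change IsOpenImmersion (u K 1)
    rw [u_one]
    infer_instance

theorem range_u (i : Fin (1 + 1)) : Set.range (u K i) = {w : A K | (X : K[X]) ∉ w.asIdeal} := by
  fin_cases i
  · exact range_u0 K
  · change Set.range (u K 1) = _
    rw [u_one, ← range_u0]
    have : Function.Surjective (inv K) := (inv K).surjective
    ext w
    constructor
    · rintro ⟨t, rfl⟩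
      exact ⟨inv K t, (Scheme.Hom.comp_apply _ _ _).symm⟩
    · rintro ⟨t, rfl⟩
      obtain ⟨s, rfl⟩ := this t
      exact ⟨s, Scheme.Hom.comp_apply _ _ _⟩

theorem u_ch (i : Fin (1 + 1)) : u K i ≫ ch K i = u K 0 ≫ ch K 0 := by
  fin_cases i
  · rfl
  · change u K 1 ≫ ch K 1 = _
    rw [ch, ch, ← Category.assoc, ← Category.assoc]
    congr 1
    have h0 := map_pt (CommRingCat.ofHom (ur K 0)) 0 (pr (CommRingCat.of K)) (Polynomial.X : K[X])
    have h1 := map_pt (CommRingCat.ofHom (ur K 1)) 1 (pr (CommRingCat.of K)) (Polynomial.X : K[X])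
    have e0 : (CommRingCat.ofHom (ur K 0)).hom (Polynomial.X : K[X]) = LaurentPolynomial.T 1 :=
      Polynomial.toLaurent_X
    have e1 : (CommRingCat.ofHom (ur K 1)).hom (Polynomial.X : K[X]) = LaurentPolynomial.T (-1) := by
      change LaurentPolynomial.invert (Polynomial.toLaurent (Polynomial.X : K[X])) = _
      rw [Polynomial.toLaurent_X, LaurentPolynomial.invert_T]
    rw [e0] at h0
    rw [e1] at h1
    have eb : Spec.map (CommRingCat.ofHom (ur K 1)) ≫ pr (CommRingCat.of K) =
        Spec.map (CommRingCat.ofHom (ur K 0)) ≫ pr (CommRingCat.of K) := by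
      rw [pr, ← Spec.map_comp, ← Spec.map_comp]
      congr 1
      refine CommRingCat.hom_ext (RingHom.ext fun c => ?_)
      change LaurentPolynomial.invert (Polynomial.toLaurent (Polynomial.C c)) = Polynomial.toLaurent (Polynomial.C c)
      rw [Polynomial.toLaurent_C, LaurentPolynomial.invert_C]
    rw [eb] at h1
    refine h1.trans (Eq.trans ?_ h0.symm)
    refine (pt_inv 0 _ ?_).symm
    rw [← LaurentPolynomial.T_add]
    rfl

/-- `G_m` in `P¹`. -/
noncomputable def jj : Gm K ⟶ C K := u K 0 ≫ ch K 0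

instance : IsOpenImmersion (jj K) := by
  unfold jj
  infer_instance

theorem jj_eq (i : Fin (1 + 1)) : jj K = u K i ≫ ch K i := (u_ch K i).symm

theorem jj_str : jj K ≫ str K = Spec.map (CommRingCat.ofHom (algebraMap K K[T;T⁻¹])) := by
  rw [jj, Category.assoc, ch_str, u_zero, ← Spec.map_comp]
  congr 1
  refine CommRingCat.hom_ext (RingHom.ext fun c => ?_)
  exact Polynomial.toLaurent_C c

/-- The origin. -/
noncomputable def orig : A K := ⟨Ideal.span {X}, by
  rw [Ideal.span_singleton_prime Polynomial.X_ne_zero]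
  exact Polynomial.prime_X⟩

theorem X_mem_orig : (X : K[X]) ∈ (orig K).asIdeal := Ideal.mem_span_singleton_self _

/-- The points `0` and `∞`. -/
noncomputable def x (i : Fin (1 + 1)) : C K := ch K i (orig K)

theorem ch_mem_range_iff (i : Fin (1 + 1)) (w : A K) :
    ch K (i + 1) w ∈ Set.range (ch K i) ↔ (X : K[X]) ∉ w.asIdeal := by
  rw [← chart_mem_range_iff i (CommRingCat.of K) w]
  constructor
  · rintro ⟨t, ht⟩
    refine ⟨t, ?_⟩
    apply (projSpaceOverIso 1 K).hom.isOpenEmbedding.injective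
    rw [ch, ch, Scheme.Hom.comp_apply, Scheme.Hom.comp_apply] at ht
    exact ht
  · rintro ⟨t, ht⟩
    refine ⟨t, ?_⟩
    rw [ch, ch, Scheme.Hom.comp_apply, Scheme.Hom.comp_apply]
    exact congrArg _ ht

theorem compl_range_ch (i : Fin (1 + 1)) : (Set.range (ch K i))ᶜ = {x K (i + 1)} := by
  ext z
  constructor
  · intro hz
    obtain ⟨z', rfl⟩ := (projSpaceOverIso 1 K).hom.surjective z
    have hz' : z' ∉ Set.range (chart i (CommRingCat.of K)) := by
      rintro ⟨t, rfl⟩
      exact hz ⟨t, Scheme.Hom.comp_apply _ _ _⟩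
    obtain ⟨w, rfl, hw⟩ := mem_range_other i (CommRingCat.of K) z' hz'
    have : w = orig K := eq_of_X_mem (CommRingCat.of K) w (orig K) hw (X_mem_orig K)
      (Subsingleton.elim (α := PrimeSpectrum K) _ _)
    rw [this]
    exact (Scheme.Hom.comp_apply _ _ _).symm
  · rintro rfl hz
    exact (ch_mem_range_iff K i _).1 hz (X_mem_orig K)

theorem isClosed_x (i : Fin (1 + 1)) : IsClosed ({x K i} : Set (C K)) := by
  have h : (Set.range (ch K (i + 1)))ᶜ = {x K i} := by
    rw [compl_range_ch]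
    congr 2
    fin_cases i <;> rfl
  rw [← h]
  exact (ch K (i + 1)).isOpenEmbedding.isOpen_range.isClosed_compl

theorem x_ne : x K 0 ≠ x K 1 := by
  intro h
  have h1 : x K 1 ∈ (Set.range (ch K 0))ᶜ := by
    rw [compl_range_ch]
    rfl
  apply h1
  rw [← h]
  exact ⟨_, rfl⟩

theorem compl_range_jj : ({x K 0, x K 1} : Set (C K)) = (Set.range (jj K))ᶜ := by
  have h : Set.range (jj K) = Set.range (ch K 0) ∩ Set.range (ch K 1) := by
    ext z
    constructor
    · rintro ⟨t, rfl⟩
      refine ⟨⟨u K 0 t, ?_⟩, ⟨u K 1 t, ?_⟩⟩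
      · rw [jj_eq K 0, Scheme.Hom.comp_apply]
      · rw [jj_eq K 1, Scheme.Hom.comp_apply]
    · rintro ⟨⟨w, rfl⟩, h1⟩
      have h2 := (ch_mem_range_iff K 1 w).1 h1
      have h3 : w ∈ Set.range (u K 0) := by
        rw [range_u]
        exact h2
      obtain ⟨t, rfl⟩ := h3
      refine ⟨t, ?_⟩
      rw [jj_eq K 0, Scheme.Hom.comp_apply]
  rw [h, Set.compl_inter, compl_range_ch, compl_range_ch, Set.union_comm]
  rfl

end Groth.Agent.Sga4h.H276.P1
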