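import Groth.Agent.Sga4h.H918.Lang
import Groth.Agent.Sga4h.H299.Proj

/-!
# The sheaves `LS f` on affine schemes

`LS ρ θ f` on `Spec R` for `f : R`, `ρ : k →+* R`, `θ` a character of `k × k^*`: `F_θ(f, 1)`.
`nonempty_pull`, `nonempty_add`, `nonempty_zero`, `nonempty_pair`.
-/

set_option autoImplicit false
universe u

open CategoryTheory CategoryTheory.Limits AlgebraicGeometry Opposite

namespace Groth.Agent.Sga4h.H276.LSh

open Groth.Agent.Sga4h.H918.Gen Groth.Agent.Sga4h.H918.Ask Groth.Agent.Sga4h.H918.Lang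
open Groth.Agent.Sga4h.H299.Proj (T)

variable {k : Type*} [Field k] [Fintype k] {Λ : Type (u + 1)} [CommRing Λ]

/-- Elements of a ring as functions on its spectrum. -/
noncomputable abbrev gl (R : Type u) [CommRing R] : R →+* Γ(Spec (CommRingCat.of R), ⊤) :=
  (Scheme.ΓSpecIso (CommRingCat.of R)).inv.hom

theorem gl_map {R R' : Type u} [CommRing R] [CommRing R'] (φ : R →+* R') (f : R) :
    (Spec.map (CommRingCat.ofHom φ)).appTop.hom (gl R f) = gl R' (φ f) := by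
  have h := Scheme.ΓSpecIso_inv_naturality (CommRingCat.ofHom φ)
  exact (congrArg (fun q => q.hom f) h).symm

/-- The sheaf of the function `f`. -/
noncomputable def LS {R : Type u} [CommRing R] (ρ : k →+* R) (θ : GG k →* Λˣ) (f : R) :
    EtModW.Mod Λ (Spec (CommRingCat.of R)) :=
  F ((gl R).comp ρ) θ (gl R f) 1 isUnit_one

theorem nonempty_F_congr {X : Scheme.{u}} {ρ ρ' : k →+* Γ(X, ⊤)} (θ : GG k →* Λˣ) {f f' v v' : Γ(X, ⊤)} (hρ : ρ = ρ')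
    (hf : f = f') (hv : v = v') (h : IsUnit v) (h' : IsUnit v') : Nonempty (F ρ θ f v h ≅ F ρ' θ f' v' h') := by
  subst hρ hf hv
  exact ⟨Iso.refl _⟩

variable {R R' : Type u} [CommRing R] [CommRing R']

theorem nonempty_pull (ρ : k →+* R) (θ : GG k →* Λˣ) (f : R) (φ : R →+* R') :
    Nonempty ((EtModW.pull Λ (Spec.map (CommRingCat.ofHom φ))).obj (LS ρ θ f) ≅ LS (φ.comp ρ) θ (φ f)) := by
  obtain ⟨e⟩ := pullF (ρ := (gl R).comp ρ) (f := gl R f) (Spec.map (CommRingCat.ofHom φ)) θ isUnit_one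
  obtain ⟨e'⟩ := nonempty_F_congr (X := Spec (CommRingCat.of R')) θ
    (ρ := (Spec.map (CommRingCat.ofHom φ)).appTop.hom.comp ((gl R).comp ρ)) (ρ' := (gl R').comp (φ.comp ρ))
    (f := (Spec.map (CommRingCat.ofHom φ)).appTop.hom (gl R f)) (f' := gl R' (φ f))
    (v := (Spec.map (CommRingCat.ofHom φ)).appTop.hom 1) (v' := 1)
    (RingHom.ext fun c => gl_map φ (ρ c)) (gl_map φ f) (map_one _) (isUnit_one.map _) isUnit_one
  exact ⟨e ≪≫ e'⟩

theorem nonempty_congr {ρ ρ' : k →+* R} (θ : GG k →* Λˣ) {f f' : R} (hρ : ρ = ρ') (hf : f = f') :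
    Nonempty (LS ρ θ f ≅ LS ρ' θ f') := by
  subst hρ hf
  exact ⟨Iso.refl _⟩

theorem nonempty_pull' (ρ : k →+* R) (θ : GG k →* Λˣ) (f : R) (φ : R →+* R') (ρ' : k →+* R') (f' : R')
    (hρ : φ.comp ρ = ρ') (hf : φ f = f') :
    Nonempty ((EtModW.pull Λ (Spec.map (CommRingCat.ofHom φ))).obj (LS ρ θ f) ≅ LS ρ' θ f') := by
  subst hρ hf
  exact nonempty_pull ρ θ f φ

theorem nonempty_add (ρ : k →+* R) (θ : GG k →* Λˣ) (f g : R) :
    Nonempty (LS ρ θ (f + g) ≅ (T (LS ρ θ f)).obj (LS ρ θ g)) := by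
  obtain ⟨e⟩ := mulF (f := gl R f) (u := 1) (f' := gl R g) (u' := 1) ((gl R).comp ρ) θ isUnit_one isUnit_one
  obtain ⟨e'⟩ := nonempty_F_congr θ (ρ := (gl R).comp ρ) (f := gl R (f + g)) (f' := gl R f + gl R g) (v := 1)
    (v' := 1 * 1) rfl (map_add _ _ _) (mul_one 1).symm isUnit_one (isUnit_one.mul isUnit_one)
  exact ⟨e' ≪≫ e⟩

theorem nonempty_zero (ρ : k →+* R) (θ : GG k →* Λˣ) (hθ : ∀ d : kˣ, θ (1, d) = 1) :
    Nonempty (LS ρ θ 0 ≅ EtModW.constMod Λ (Spec (CommRingCat.of R)) Λ) := by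
  obtain ⟨e⟩ := trivF_left (X := Spec (CommRingCat.of R)) (ρ := (gl R).comp ρ) (u := 1) θ hθ isUnit_one
  obtain ⟨e'⟩ := nonempty_F_congr θ (ρ := (gl R).comp ρ) (f := gl R 0) (f' := 0) (v := 1)
    (v' := 1) rfl (map_zero _) rfl isUnit_one isUnit_one
  exact ⟨e' ≪≫ e⟩

theorem nonempty_pair (ρ : k →+* R) (θ : GG k →* Λˣ) (hθ : ∀ d : kˣ, θ (1, d) = 1) (f : R) :
    Nonempty ((T (LS ρ θ f)).obj (LS ρ θ (-f)) ≅ EtModW.constMod Λ (Spec (CommRingCat.of R)) Λ) := by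
  obtain ⟨e⟩ := nonempty_add ρ θ f (-f)
  obtain ⟨e'⟩ := nonempty_congr (ρ := ρ) (ρ' := ρ) θ rfl (add_neg_cancel f)
  obtain ⟨e''⟩ := nonempty_zero ρ θ hθ
  exact ⟨e.symm ≪≫ e' ≪≫ e''⟩

end Groth.Agent.Sga4h.H276.LSh
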