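import Groth.Agent.Sga4h.H276.Exc
import Groth.Agent.Sga4h.H276.LSh
import Groth.Agent.Sga4h.H299.LamMod
import Groth.Agent.Sga4h.H980.Fib
import Groth.Prelude.Def_LangSh
import Mathlib.RingTheory.FiniteType
import Mathlib.LinearAlgebra.Dimension.FreeAndStrongRankCondition
import Mathlib.FieldTheory.Finiteness
import Mathlib.RingTheory.Localization.InvSubmonoid

/-!
# S4251, parts (i) and (iii) for `a ≠ 0`, from the cohomology of the torus

`concAt_hyper`: the cohomology of `V_a` in the form of the statement from that of `G_m^m` with coefficients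
`LS (∑ x_i + a / ∏ x_i)`.
-/

set_option autoImplicit false
universe u

open CategoryTheory CategoryTheory.Limits AlgebraicGeometry Opposite
open scoped BigOperators

namespace Groth.Agent.Sga4h.H276.Fin1

open Groth.Agent.Sga4h.ModRestr Groth.Agent.Sga4h.EtaleRes Groth.Agent.Etrest.ModAb
  Groth.Agent.Sga4h.H276.Cp Groth.Agent.Sga4h.H276.Exc Groth.Agent.Sga4h.H276.LSh
  Groth.Agent.Sga4h.H299.LamMod Groth.Agent.Sga4h.H919.ConcH Groth.Agent.Sga4h.H918.Ask
  Groth.Agent.Sga4h.H980.Fib Groth.Agent.Etcore.LPullComp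

attribute [local instance] jCont

/-- The structure morphism of an affine `K`-scheme. -/
noncomputable abbrev str (K A : Type u) [CommRing K] [CommRing A] [Algebra K A] :
    Spec (CommRingCat.of A) ⟶ Spec (CommRingCat.of K) := Spec.map (CommRingCat.ofHom (algebraMap K A))

instance locallyOfFiniteType_str (K A : Type u) [CommRing K] [CommRing A] [Algebra K A] [h : Algebra.FiniteType K A] :
    LocallyOfFiniteType (str K A) := by
  rw [HasRingHomProperty.Spec_iff (P := @LocallyOfFiniteType)]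
  exact RingHom.finiteType_algebraMap.2 h

instance finiteType_TK (K : Type u) [Field K] (m : ℕ) : Algebra.FiniteType K (TK K m) :=
  Algebra.FiniteType.trans (S := MvPolynomial (Fin m) K) inferInstance
    (IsLocalization.finiteType_of_monoid_fg (Submonoid.powers (pr K m)) _)

section

variable {k K : Type u} [Field k] [Fintype k] [Field K] [Algebra k K] [IsSepClosed K] {Λ : Type} [Field Λ] [Finite Λ]

/-- The hypothesis on the torus. -/
def TorusConc (K : Type u) [Field K] [Algebra k K] (θ : GG k →* (UL.{u} Λ)ˣ) (m : ℕ) (a : K) : Prop :=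
  Cc (str K (TK K m)) (LS ((algebraMap K (TK K m)).comp (algebraMap k K)) θ
    ((∑ i : Fin m, x i) + algebraMap K (TK K m) a * Groth.Agent.Sga4h.H980.Fib.inv m)) m (Nat.card Λ ^ (m + 1))

/-- The statement for the Artin–Schreier sheaf over `K`. -/
def IsLS (K : Type u) [Field K] [Algebra k K] (θ : GG k →* (UL.{u} Λ)ˣ) (n : ℕ)
    (L : EtLam.Sheaf Λ (Spec (CommRingCat.of (MvPolynomial (Fin n) k)))) : Prop :=
  Nonempty ((EtModW.pull (UL.{u} Λ) (Spec.map (CommRingCat.ofHom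
    (MvPolynomial.map (algebraMap k K) : MvPolynomial (Fin n) k →+* MvPolynomial (Fin n) K)))).obj (toMod L) ≅
      LS ((MvPolynomial.C : K →+* MvPolynomial (Fin n) K).comp (algebraMap k K)) θ
        (∑ i : Fin n, MvPolynomial.X i : MvPolynomial (Fin n) K))

omit [Finite Λ] in
theorem concAt_hyper {ℓ : ℕ} (h0 : 0 < ℓ) (hℓ : (ℓ : Λ) = 0) (θ : GG k →* (UL.{u} Λ)ˣ) (m : ℕ)
    (L : EtLam.Sheaf Λ (Spec (CommRingCat.of (MvPolynomial (Fin (m + 1)) k)))) (hL : IsLS K θ (m + 1) L)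
    {a : K} (ha : a ≠ 0) (hT : TorusConc (k := k) K θ m a) {P : Scheme.{u}}
    (j : Spec (CommRingCat.of (MvPolynomial (Fin (m + 1)) K ⧸
      Ideal.span {(∏ i : Fin (m + 1), MvPolynomial.X i) - MvPolynomial.C a})) ⟶ P) [IsOpenImmersion j]
    (b : P ⟶ Spec (CommRingCat.of K)) [IsProper b]
    (hj : j ≫ b = Spec.map (CommRingCat.ofHom (algebraMap K (MvPolynomial (Fin (m + 1)) K ⧸
      Ideal.span {(∏ i : Fin (m + 1), MvPolynomial.X i) - MvPolynomial.C a})))) :
    ConcAt P (FinFr.extZeroLam j (EtLam.pullback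
        (Spec.map (CommRingCat.ofHom (Ideal.Quotient.mk (Ideal.span {(∏ i : Fin (m + 1), MvPolynomial.X i) - MvPolynomial.C a}))) ≫
          Spec.map (CommRingCat.ofHom (MvPolynomial.map (algebraMap k K)))) L)).carrier m (Nat.card Λ ^ (m + 1)) := by
  have hℓ' : (ℓ : UL.{u} Λ) = 0 := ULift.down_injective hℓ
  have hqc : QuasiCompact j := by
    have : QuasiCompact (j ≫ b) := by rw [hj]; infer_instance
    exact QuasiCompact.of_comp j b
  let mk : MvPolynomial (Fin (m + 1)) K →+* HK K (m + 1) a := Ideal.Quotient.mk _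
  let ι : MvPolynomial (Fin (m + 1)) k →+* MvPolynomial (Fin (m + 1)) K := MvPolynomial.map (algebraMap k K)
  let ρ : k →+* MvPolynomial (Fin (m + 1)) K := (MvPolynomial.C : K →+* MvPolynomial (Fin (m + 1)) K).comp (algebraMap k K)
  obtain ⟨e1⟩ := hL
  obtain ⟨e2⟩ := nonempty_pull (Λ := UL.{u} Λ) ρ θ (∑ i : Fin (m + 1), MvPolynomial.X i) mk
  let L' := EtLam.pullback (Spec.map (CommRingCat.ofHom mk) ≫ Spec.map (CommRingCat.ofHom ι)) L
  let e3 : toMod L' ≅ LS (mk.comp ρ) θ (mk (∑ i : Fin (m + 1), MvPolynomial.X i)) :=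
    (toModPull _ L).symm ≪≫ ((pullComp (UL.{u} Λ) (Spec.map (CommRingCat.ofHom mk)) (Spec.map (CommRingCat.ofHom ι))).app _).symm ≪≫
      (EtModW.pull (UL.{u} Λ) (Spec.map (CommRingCat.ofHom mk))).mapIso e1 ≪≫ e2
  -- the isomorphism of schemes
  have hu : IsUnit a := isUnit_iff_ne_zero.2 ha
  let φ := hyperIso K m hu
  have hφ : φ.inv ≫ str K (TK K m) = str K (HK K (m + 1) a) := hyperIso_inv_str K m hu
  have h1 := Cc.iso h0 hℓ' φ.inv hφ hT
  have h2 : Nonempty ((EtModW.pull (UL.{u} Λ) φ.inv).obj (LS ((algebraMap K (TK K m)).comp (algebraMap k K)) θ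
      ((∑ i : Fin m, x i) + algebraMap K (TK K m) a * Groth.Agent.Sga4h.H980.Fib.inv m)) ≅
      LS (mk.comp ρ) θ (mk (∑ i : Fin (m + 1), MvPolynomial.X i))) := by
    refine nonempty_pull' _ _ _ ((hyperEquiv (n := m) hu).symm : TK K m →+* HK K (m + 1) a) _ _ ?_ ?_
    · refine RingHom.ext fun c => ?_
      exact (hyperEquiv (n := m) hu).symm.commutes (algebraMap k K c)
    · change (hyperEquiv (n := m) hu).symm _ = _
      rw [AlgEquiv.symm_apply_eq]
      exact (hyperEquiv_sum hu).symm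
  obtain ⟨e4⟩ := h2
  have h3 : Cc (str K (HK K (m + 1) a)) (toMod L') m (Nat.card Λ ^ (m + 1)) := (h1.of_iso e4).of_iso e3.symm
  exact (cc_iff_cpt h0 hℓ' (f := str K (HK K (m + 1) a)) ⟨P, j, b, inferInstance, hqc, inferInstance, hj⟩ _ _ _).1 h3

omit [Fintype k] [IsSepClosed K] in
/-- The dimension over `Λ`. -/
theorem finrank_of_conc {P : Scheme.{u}} {L : EtLam.Sheaf Λ P} {d n : ℕ} (h : ConcAt P L.carrier d (Nat.card Λ ^ n)) :
    Module.finrank Λ (EtCoh.H P L.carrier d) = n := by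
  have := h.fin
  have h1 : Nat.card (EtCoh.H P L.carrier d) = Nat.card Λ ^ Module.finrank Λ (EtCoh.H P L.carrier d) :=
    Module.natCard_eq_pow_finrank
  exact Nat.pow_right_injective Finite.one_lt_card (h1.symm.trans h.card)

omit [IsSepClosed K] [Finite Λ] in
theorem isLS_of_base (θ : GG k →* (UL.{u} Λ)ˣ) (n : ℕ)
    (L : EtLam.Sheaf Λ (Spec (CommRingCat.of (MvPolynomial (Fin n) k))))
    (he : Nonempty (toMod L ≅ LS (algebraMap k (MvPolynomial (Fin n) k)) θ (∑ i : Fin n, MvPolynomial.X i))) :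
    IsLS K θ n L := by
  obtain ⟨e⟩ := he
  obtain ⟨e'⟩ := nonempty_pull' (Λ := UL.{u} Λ) (algebraMap k (MvPolynomial (Fin n) k)) θ
    (∑ i : Fin n, MvPolynomial.X i) (MvPolynomial.map (algebraMap k K))
    ((MvPolynomial.C : K →+* MvPolynomial (Fin n) K).comp (algebraMap k K)) (∑ i : Fin n, MvPolynomial.X i)
    (RingHom.ext fun c => MvPolynomial.map_C _ _) (by simp)
  exact ⟨(EtModW.pull _ _).mapIso e ≪≫ e'⟩

/-- Parts (i) and (iii) of the statement for `a ≠ 0`. -/
theorem parts {ℓ : ℕ} (h0 : 0 < ℓ) (hℓ : (ℓ : Λ) = 0) (θ : GG k →* (UL.{u} Λ)ˣ) (n : ℕ) (hn : 1 ≤ n)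
    (L : EtLam.Sheaf Λ (Spec (CommRingCat.of (MvPolynomial (Fin n) k)))) (hL : IsLS K θ n L)
    {a : K} (ha : a ≠ 0) (hT : TorusConc (k := k) K θ (n - 1) a) {P : Scheme.{u}}
    (j : Spec (CommRingCat.of (MvPolynomial (Fin n) K ⧸
      Ideal.span {(∏ i : Fin n, MvPolynomial.X i) - MvPolynomial.C a})) ⟶ P) [IsOpenImmersion j]
    (b : P ⟶ Spec (CommRingCat.of K)) [IsProper b]
    (hj : j ≫ b = Spec.map (CommRingCat.ofHom (algebraMap K (MvPolynomial (Fin n) K ⧸
      Ideal.span {(∏ i : Fin n, MvPolynomial.X i) - MvPolynomial.C a})))) :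
    (∀ i : ℕ, i ≠ n - 1 → Subsingleton (EtCoh.H P (FinFr.extZeroLam j (EtLam.pullback
        (Spec.map (CommRingCat.ofHom (Ideal.Quotient.mk (Ideal.span {(∏ i : Fin n, MvPolynomial.X i) - MvPolynomial.C a}))) ≫
          Spec.map (CommRingCat.ofHom (MvPolynomial.map (algebraMap k K)))) L)).carrier i)) ∧
    Module.finrank Λ (EtCoh.H P (FinFr.extZeroLam j (EtLam.pullback
        (Spec.map (CommRingCat.ofHom (Ideal.Quotient.mk (Ideal.span {(∏ i : Fin n, MvPolynomial.X i) - MvPolynomial.C a}))) ≫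
          Spec.map (CommRingCat.ofHom (MvPolynomial.map (algebraMap k K)))) L)).carrier (n - 1)) = n := by
  obtain ⟨m, rfl⟩ : ∃ m, n = m + 1 := ⟨n - 1, by omega⟩
  have h := concAt_hyper h0 hℓ θ m L hL ha hT j b hj
  exact ⟨fun i hi => h.zero i hi, finrank_of_conc h⟩

end

end Groth.Agent.Sga4h.H276.Fin1
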