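import Groth.Agent.Sga4h.H919.P1Geo
import Mathlib.Algebra.Polynomial.Laurent

/-!
# The multiplicative group over a ring as an open subscheme of the affine line: geometry

* `Gt B = Spec B[T;T⁻¹]`, `gto : Gt B ⟶ AA B`, `gstr : Gt B ⟶ Spec B`, `ginv` the inversion;
* `isPullback_gto`, `ginv_map`, `rh_ext`.
-/

set_option autoImplicit false
universe u
open CategoryTheory CategoryTheory.Limits AlgebraicGeometry Opposite

namespace Groth.Agent.Sga4h.H276.GmP

open Groth.Agent.EtpbcA.P1Charts Groth.Agent.Sga4h.H919.P1Geo
open LaurentPolynomial (T)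

section ring

variable {B S : Type*} [CommRing B] [CommRing S]

theorem rh_ext {f g : LaurentPolynomial B →+* S} (h1 : f.comp LaurentPolynomial.C = g.comp LaurentPolynomial.C)
    (h2 : f (T 1) = g (T 1)) : f = g := by
  refine IsLocalization.ringHom_ext (Submonoid.powers (Polynomial.X : Polynomial B)) ?_
  refine Polynomial.ringHom_ext (fun a => ?_) ?_
  · change f (Polynomial.toLaurent (Polynomial.C a)) = g (Polynomial.toLaurent (Polynomial.C a))
    rw [Polynomial.toLaurent_C]
    exact RingHom.congr_fun h1 a
  · change f (Polynomial.toLaurent Polynomial.X) = g (Polynomial.toLaurent Polynomial.X)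
    rw [Polynomial.toLaurent_X]
    exact h2

/-- The coordinate as a unit. -/
noncomputable def tU (B : Type*) [CommRing B] : (LaurentPolynomial B)ˣ :=
  ⟨T 1, T (-1), by rw [← LaurentPolynomial.T_add]; exact LaurentPolynomial.T_zero,
    by rw [← LaurentPolynomial.T_add]; exact LaurentPolynomial.T_zero⟩

theorem val_tU (B : Type*) [CommRing B] : (tU B : LaurentPolynomial B) = T 1 := rfl

/-- The morphism with given values. -/
noncomputable def rlift (f : B →+* S) (x : Sˣ) : LaurentPolynomial B →+* S := LaurentPolynomial.eval₂ f x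

theorem rlift_C (f : B →+* S) (x : Sˣ) (b : B) : rlift f x (LaurentPolynomial.C b) = f b :=
  LaurentPolynomial.eval₂_C f x b

theorem rlift_T (f : B →+* S) (x : Sˣ) : rlift f x (T 1) = x := by
  rw [rlift, LaurentPolynomial.eval₂_T, zpow_one]

/-- The map on coefficients. -/
noncomputable def mL (ι : B →+* S) : LaurentPolynomial B →+* LaurentPolynomial S :=
  rlift (LaurentPolynomial.C.comp ι) (tU S)

theorem mL_C (ι : B →+* S) : (mL ι).comp LaurentPolynomial.C = LaurentPolynomial.C.comp ι :=
  RingHom.ext fun b => rlift_C _ _ b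

theorem mL_T (ι : B →+* S) : mL ι (T 1) = T 1 := rlift_T _ _

theorem map_T_neg {R : Type*} [CommRing R] (m : LaurentPolynomial B →+* R) {x : R} (y : R) (h : m (T 1) = x)
    (hy : x * y = 1) : m (T (-1)) = y := by
  have h1 : m (T 1) * m (T (-1)) = 1 := by
    rw [← map_mul, ← LaurentPolynomial.T_add]
    exact (congrArg m LaurentPolynomial.T_zero).trans (map_one m)
  rw [h] at h1
  calc m (T (-1)) = (x * y) * m (T (-1)) := by rw [hy, one_mul]
    _ = (x * m (T (-1))) * y := by ring
    _ = y := by rw [h1, one_mul]

end ring

variable (B : Type u) [CommRing B]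

/-- The multiplicative group. -/
noncomputable abbrev Gt : Scheme.{u} := Spec (CommRingCat.of (LaurentPolynomial B))

/-- The inclusion in the affine line. -/
noncomputable abbrev gto : Gt B ⟶ AA (CommRingCat.of B) :=
  Spec.map (CommRingCat.ofHom (Polynomial.toLaurent : Polynomial B →+* LaurentPolynomial B))

/-- The structure morphism. -/
noncomputable abbrev gstr : Gt B ⟶ Spec (CommRingCat.of B) :=
  Spec.map (CommRingCat.ofHom (LaurentPolynomial.C : B →+* LaurentPolynomial B))

/-- The inversion. -/
noncomputable abbrev ginv : Gt B ⟶ Gt B :=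
  Spec.map (CommRingCat.ofHom (LaurentPolynomial.invert (R := B) : LaurentPolynomial B →+* LaurentPolynomial B))

instance isOpenImmersion_gto : IsOpenImmersion (gto B) := by
  have h : IsLocalization.Away (Polynomial.X : Polynomial B) (LaurentPolynomial B) := inferInstance
  exact AlgebraicGeometry.IsOpenImmersion.of_isLocalization
    (S := LaurentPolynomial B) (Polynomial.X : Polynomial B)

theorem gto_pr : gto B ≫ pr (CommRingCat.of B) = gstr B := by
  rw [← Spec.map_comp, ← CommRingCat.ofHom_comp]
  congr 2
  exact RingHom.ext fun b => Polynomial.toLaurent_C b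

theorem ginv_ginv : ginv B ≫ ginv B = 𝟙 (Gt B) := by
  rw [← Spec.map_comp, ← CommRingCat.ofHom_comp, ← Spec.map_id]
  congr 1
  apply CommRingCat.hom_ext
  exact RingHom.ext fun x => LaurentPolynomial.involutive_invert x

instance isIso_ginv : IsIso (ginv B) := ⟨ginv B, ginv_ginv B, ginv_ginv B⟩

theorem ginv_str : ginv B ≫ gstr B = gstr B := by
  rw [← Spec.map_comp, ← CommRingCat.ofHom_comp]
  congr 2
  exact RingHom.ext fun b => LaurentPolynomial.invert_C b

theorem gto_chart_toB (i : Fin (1 + 1)) :
    (gto B ≫ chart i (CommRingCat.of B)) ≫ toB (CommRingCat.of B) = gstr B := by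
  rw [Category.assoc, chart_toB, gto_pr]

variable {B} {C : Type u} [CommRing C] (ι : B →+* C)

theorem ginv_map (m : LaurentPolynomial B →+* LaurentPolynomial C)
    (hC : m.comp LaurentPolynomial.C = LaurentPolynomial.C.comp ι) (hT : m (T 1) = T 1) :
    ginv C ≫ Spec.map (CommRingCat.ofHom m) = Spec.map (CommRingCat.ofHom m) ≫ ginv B := by
  rw [← Spec.map_comp, ← Spec.map_comp, ← CommRingCat.ofHom_comp, ← CommRingCat.ofHom_comp]
  congr 2
  refine rh_ext (RingHom.ext fun b => ?_) ?_
  · have h := fun b => RingHom.congr_fun hC b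
    simp only [RingHom.comp_apply] at h ⊢
    erw [LaurentPolynomial.invert_C, h, LaurentPolynomial.invert_C]
  · have h : m (T (-1)) = T (-1) := map_T_neg m _ hT (by
      rw [← LaurentPolynomial.T_add]; exact LaurentPolynomial.T_zero)
    change LaurentPolynomial.invert (m (T 1)) = m (LaurentPolynomial.invert (T 1))
    rw [hT, LaurentPolynomial.invert_T, LaurentPolynomial.invert_T, h]

/-- The multiplicative group in the affine line after base change. -/
theorem isPullback_gto (m : LaurentPolynomial B →+* LaurentPolynomial C)
    (hC : m.comp LaurentPolynomial.C = LaurentPolynomial.C.comp ι) (hT : m (T 1) = T 1) :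
    IsPullback (Spec.map (CommRingCat.ofHom m)) (gto C) (gto B) (amap (CommRingCat.ofHom ι)) := by
  have hC' := fun b => RingHom.congr_fun hC b
  simp only [RingHom.comp_apply] at hC'
  have h : IsPushout (CommRingCat.ofHom (Polynomial.toLaurent : Polynomial B →+* LaurentPolynomial B))
      (CommRingCat.ofHom (Polynomial.mapRingHom ι)) (CommRingCat.ofHom m)
      (CommRingCat.ofHom (Polynomial.toLaurent : Polynomial C →+* LaurentPolynomial C)) := by
    have hw : CommRingCat.ofHom (Polynomial.toLaurent : Polynomial B →+* LaurentPolynomial B) ≫ CommRingCat.ofHom m =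
        CommRingCat.ofHom (Polynomial.mapRingHom ι) ≫
          CommRingCat.ofHom (Polynomial.toLaurent : Polynomial C →+* LaurentPolynomial C) := by
      apply CommRingCat.hom_ext
      refine Polynomial.ringHom_ext (fun b => ?_) ?_
      · change m (Polynomial.toLaurent (Polynomial.C b)) = Polynomial.toLaurent (Polynomial.mapRingHom ι (Polynomial.C b))
        rw [Polynomial.toLaurent_C, hC', Polynomial.coe_mapRingHom, Polynomial.map_C, Polynomial.toLaurent_C]
      · change m (Polynomial.toLaurent Polynomial.X) = Polynomial.toLaurent (Polynomial.mapRingHom ι Polynomial.X)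
        rw [Polynomial.toLaurent_X, hT, Polynomial.coe_mapRingHom, Polynomial.map_X, Polynomial.toLaurent_X]
    refine ⟨⟨hw⟩, ⟨PushoutCocone.IsColimit.mk _
      (fun s => CommRingCat.ofHom (rlift (s.inr.hom.comp Polynomial.C) (Units.map s.inl.hom.toMonoidHom (tU B))))
      ?_ ?_ ?_⟩⟩
    · intro s
      apply CommRingCat.hom_ext
      refine rh_ext (RingHom.ext fun b => ?_) ?_
      · have h1 := congrArg (fun t => t.hom (Polynomial.C b)) s.condition
        change s.inl.hom (Polynomial.toLaurent (Polynomial.C b)) =
          s.inr.hom (Polynomial.mapRingHom ι (Polynomial.C b)) at h1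
        rw [Polynomial.toLaurent_C, Polynomial.coe_mapRingHom, Polynomial.map_C] at h1
        change rlift _ _ (m (LaurentPolynomial.C b)) = s.inl.hom (LaurentPolynomial.C b)
        rw [hC', rlift_C, h1]
        rfl
      · change rlift _ _ (m (T 1)) = s.inl.hom (T 1)
        rw [hT, rlift_T]
        rfl
    · intro s
      apply CommRingCat.hom_ext
      refine Polynomial.ringHom_ext (fun b => ?_) ?_
      · change rlift _ _ (Polynomial.toLaurent (Polynomial.C b)) = s.inr.hom (Polynomial.C b)
        rw [Polynomial.toLaurent_C, rlift_C]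
        rfl
      · have h1 := congrArg (fun t => t.hom (Polynomial.X : Polynomial B)) s.condition
        change s.inl.hom (Polynomial.toLaurent Polynomial.X) = s.inr.hom (Polynomial.mapRingHom ι Polynomial.X) at h1
        rw [Polynomial.toLaurent_X, Polynomial.coe_mapRingHom, Polynomial.map_X] at h1
        change rlift _ _ (Polynomial.toLaurent Polynomial.X) = s.inr.hom Polynomial.X
        rw [Polynomial.toLaurent_X, rlift_T, ← h1]
        rfl
    · intro s t h1 h2
      apply CommRingCat.hom_ext
      refine rh_ext (RingHom.ext fun b => ?_) ?_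
      · have h3 := congrArg (fun q => q.hom (Polynomial.C b)) h2
        change t.hom (Polynomial.toLaurent (Polynomial.C b)) = s.inr.hom (Polynomial.C b) at h3
        rw [Polynomial.toLaurent_C] at h3
        change t.hom (LaurentPolynomial.C b) = rlift _ _ (LaurentPolynomial.C b)
        rw [h3, rlift_C]
        rfl
      · have h3 := congrArg (fun q => q.hom (T 1 : LaurentPolynomial B)) h1
        change t.hom (m (T 1)) = s.inl.hom (T 1) at h3
        rw [hT] at h3
        change t.hom (T 1) = rlift _ _ (T 1)
        rw [h3, rlift_T]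
        rfl
  exact isPullback_SpecMap_of_isPushout _ _ _ _ h

end Groth.Agent.Sga4h.H276.GmP
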