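import Groth.Agent.Sga4h.H276.Cp
import Groth.Agent.Sga4h.H276.GmP
import Groth.Agent.Sga4h.H919.Fam

/-!
# The cohomology of a family over the multiplicative group as the cohomology of a sheaf on the projective line

`S` an additive system, `π : X₀ ⟶ G_m` over `K` with `R^q π_! sh σ = 0` for `q ≠ d`, `Kn = R^d π_! sh σ`,
`Gn = o_! inv^* Kn` on `A^1_K`; `κ` over `K`, `a ∈ κ`.  `nonempty_A1` :
`R^(m+d) f_! sh (σ + a Π⁻¹) ≅ R^m (P^1_κ → Spec κ)_* (Fa a Gn)`.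
-/

set_option autoImplicit false
universe u

open CategoryTheory CategoryTheory.Limits AlgebraicGeometry Opposite

namespace Groth.Agent.Sga4h.H276.A1

open Groth.Agent.Sga4h.ModRestr Groth.Agent.Sga4h.EtaleRes Groth.Agent.Etrest.ModAb
  Groth.Agent.Sga4h.H299.ExtBC Groth.Agent.Sga4h.H299.Rs Groth.Agent.Sga4h.H299.AbBasic
  Groth.Agent.Sga4h.H299.RsBC Groth.Agent.Sga4h.H276.Cp Groth.Agent.Sga4h.H276.GmP
  Groth.Agent.Sga4h.H919.Fam Groth.Agent.EtpbcA.P1Charts Groth.Agent.Sga4h.H919.P1Geo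
  Groth.Agent.Sga4h.H919.P1Main Groth.Agent.Etcore.LPullComp
open Groth.Agent.Sga4h.H299.Proj hiding T
open LaurentPolynomial (T)

attribute [local instance] jCont

variable {k : Type u} [Field k] [Fintype k] {Λ : Type (u + 1)} [CommRing Λ] (S : ASys k Λ)

theorem sh_congr {R : Type u} [CommRing R] {ρ ρ' : k →+* R} {f f' : R} (h : ρ = ρ') (hf : f = f') :
    Nonempty (S.sh ρ f ≅ S.sh ρ' f') := by
  subst h hf
  exact ⟨Iso.refl _⟩

theorem sh_pull {R R' : Type u} [CommRing R] [CommRing R'] (ρ : k →+* R) (f : R) (φ : R →+* R') (ρ' : k →+* R')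
    (f' : R') (h : φ.comp ρ = ρ') (hf : φ f = f') :
    Nonempty ((EtModW.pull Λ (Spec.map (CommRingCat.ofHom φ))).obj (S.sh ρ f) ≅ S.sh ρ' f') := by
  subst h hf
  exact S.pull ρ f φ

theorem sh_pair {R : Type u} [CommRing R] (ρ : k →+* R) (f : R) :
    Nonempty ((H299.Proj.T (S.sh ρ f)).obj (S.sh ρ (-f)) ≅ EtModW.constMod Λ (Spec (CommRingCat.of R)) Λ) := by
  obtain ⟨e1⟩ := S.add ρ f (-f)
  obtain ⟨e2⟩ := sh_congr S (ρ := ρ) rfl (add_neg_cancel f)
  obtain ⟨e3⟩ := S.zero ρ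
  exact ⟨e1.symm ≪≫ e2 ≪≫ e3⟩

variable {n : ℕ} (hn0 : 0 < n) (hn : (n : Λ) = 0) {K : Type u} [Field K] (ρ : k →+* K)
  {R₀ : Type u} [CommRing R₀] (piL : LaurentPolynomial K →+* R₀) [Cf (Spec.map (CommRingCat.ofHom piL))]
  (σ : R₀)

/-- The sheaf `sh σ` on the total space. -/
noncomputable abbrev shσ : EtModW.Mod Λ (Spec (CommRingCat.of R₀)) :=
  S.sh ((piL.comp LaurentPolynomial.C).comp ρ) σ

/-- `K_n` -/
noncomputable abbrev Kn (d : ℕ) : EtModW.Mod Λ (Gt K) :=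
  (R Λ (Spec.map (CommRingCat.ofHom piL)) d).obj (shσ S ρ piL σ)

/-- `G_n` -/
noncomputable abbrev Gn (N : EtModW.Mod Λ (Gt K)) : EtModW.Mod Λ (AA (CommRingCat.of K)) :=
  (ext Λ (gto K)).obj ((EtModW.pull Λ (ginv K)).obj N)

section gm

variable {κ : Type u} [Field κ] (ι : K →+* κ) (m : LaurentPolynomial K →+* LaurentPolynomial κ)
  (hC : m.comp LaurentPolynomial.C = LaurentPolynomial.C.comp ι) (hT : m (T 1) = T 1) (a : κ)
  (N : EtModW.Mod Λ (Gt K))

/-- The sheaf `sh (a T⁻¹)` on `G_m`. -/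
noncomputable abbrev shInv : EtModW.Mod Λ (Gt κ) :=
  S.sh ((LaurentPolynomial.C.comp ι).comp ρ) (LaurentPolynomial.C a * T (-1))

include hC hT in
/-- The extension by zero to the affine line. -/
theorem nonempty_ext_gto :
    Nonempty ((ext Λ (gto κ)).obj ((EtModW.pull Λ (ginv κ)).obj ((H299.Proj.T (shInv S ρ ι a)).obj
        ((EtModW.pull Λ (Spec.map (CommRingCat.ofHom m))).obj N))) ≅
      (H299.Proj.T (Lsh S ρ ι a)).obj ((EtModW.pull Λ (prA ι)).obj (Gn N))) := by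
  obtain ⟨p⟩ := sh_pair S (((Polynomial.C : κ →+* Polynomial κ).comp ι).comp ρ) (Polynomial.C a * Polynomial.X)
  -- inverse image of `sh (a T⁻¹)` under the inversion
  obtain ⟨e1⟩ := sh_pull S ((LaurentPolynomial.C.comp ι).comp ρ) (LaurentPolynomial.C a * T (-1))
    (LaurentPolynomial.invert (R := κ) : LaurentPolynomial κ →+* LaurentPolynomial κ)
    ((LaurentPolynomial.C.comp ι).comp ρ) (LaurentPolynomial.C a * T 1)
    (RingHom.ext fun x => LaurentPolynomial.invert_C _)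
    ((map_mul _ _ _).trans (congrArg₂ _ (LaurentPolynomial.invert_C _) (LaurentPolynomial.invert_T _)))
  obtain ⟨e2⟩ := sh_pull S (((Polynomial.C : κ →+* Polynomial κ).comp ι).comp ρ) (Polynomial.C a * Polynomial.X)
    (Polynomial.toLaurent : Polynomial κ →+* LaurentPolynomial κ)
    ((LaurentPolynomial.C.comp ι).comp ρ) (LaurentPolynomial.C a * T 1)
    (RingHom.ext fun x => Polynomial.toLaurent_C _)
    ((map_mul _ _ _).trans (congrArg₂ _ (Polynomial.toLaurent_C _) Polynomial.toLaurent_X))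
  let N' := (EtModW.pull Λ (ginv K)).obj N
  let q := Spec.map (CommRingCat.ofHom m)
  -- inverse image of the coefficient sheaf
  let e3 : (EtModW.pull Λ (ginv κ)).obj ((EtModW.pull Λ q).obj N) ≅ (EtModW.pull Λ q).obj N' :=
    (pullComp Λ (ginv κ) q).app N ≪≫ (pullCongr Λ (ginv_map ι m hC hT)).app N ≪≫ ((pullComp Λ q (ginv K)).app N).symm
  let e4 : (EtModW.pull Λ (ginv κ)).obj ((H299.Proj.T (shInv S ρ ι a)).obj ((EtModW.pull Λ q).obj N)) ≅
      (H299.Proj.T ((EtModW.pull Λ (gto κ)).obj (Lsh S ρ ι a))).obj ((EtModW.pull Λ q).obj N') :=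
    (pullT (ginv κ) (shInv S ρ ι a)).app _ ≪≫ (tCongr (e1 ≪≫ e2.symm)).app _ ≪≫
      (H299.Proj.T ((EtModW.pull Λ (gto κ)).obj (Lsh S ρ ι a))).mapIso e3
  exact ⟨(ext Λ (gto κ)).mapIso e4 ≪≫ (extT p (gto κ)).app _ ≪≫
    (H299.Proj.T (Lsh S ρ ι a)).mapIso ((extPull Λ (gto K) (amap (CommRingCat.ofHom ι)) (gto κ) q
      (isPullback_gto ι m hC hT).flip).app N')⟩

/-- The sheaf on the affine line over `κ`. -/
noncomputable abbrev MA : EtModW.Mod Λ (AA (CommRingCat.of κ)) :=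
  (Groth.Agent.Sga5.H835.TensInv.tr (Lsh S ρ ι a)).obj ((EtModW.pull Λ (prA ι)).obj (Gn N))

include hn0 hn hC hT in
/-- The cohomology of the multiplicative group as the cohomology of the projective line. -/
theorem nonempty_gmM (i : Fin (1 + 1)) [Cf (gstr κ)] (q : ℕ) :
    Nonempty ((R Λ (gstr κ) q).obj ((H299.Proj.T (shInv S ρ ι a)).obj
        ((EtModW.pull Λ (Spec.map (CommRingCat.ofHom m))).obj N)) ≅
      (RS Λ (chart i (CommRingCat.of κ)) (toB (CommRingCat.of κ)) q).obj (MA S ρ ι a N)) := by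
  have hp : IsProper (toB (CommRingCat.of κ)) := Groth.Agent.Dix.ProjProper.isProper_toBase 1 _
  let M := (H299.Proj.T (shInv S ρ ι a)).obj ((EtModW.pull Λ (Spec.map (CommRingCat.ofHom m))).obj N)
  let M' := (EtModW.pull Λ (ginv κ)).obj M
  obtain ⟨e1⟩ := nonempty_iso hn0 hn (ginv κ) (ginv_str κ) q M
  obtain ⟨e2⟩ := nonempty_R hn0 hn (f := gstr κ) ⟨PP (CommRingCat.of κ), gto κ ≫ chart i (CommRingCat.of κ),
    toB (CommRingCat.of κ), inferInstance, inferInstance, hp, gto_chart_toB κ i⟩ q M'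
  obtain ⟨e3⟩ := nonempty_ext_gto S ρ ι m hC hT a N
  let e4 : (RS Λ (gto κ ≫ chart i (CommRingCat.of κ)) (toB (CommRingCat.of κ)) q).obj M' ≅
      (RS Λ (chart i (CommRingCat.of κ)) (toB (CommRingCat.of κ)) q).obj
        ((H299.Proj.T (Lsh S ρ ι a)).obj ((EtModW.pull Λ (prA ι)).obj (Gn N))) :=
    (EtModW.Rpush Λ (toB (CommRingCat.of κ)) q).mapIso
      (((extComp Λ (gto κ) (chart i (CommRingCat.of κ))).symm.app M') ≪≫
        (ext Λ (chart i (CommRingCat.of κ))).mapIso e3)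
  exact ⟨e1 ≪≫ e2 ≪≫ e4 ≪≫ (RS Λ (chart i (CommRingCat.of κ)) (toB (CommRingCat.of κ)) q).mapIso
    (tSwap (Lsh S ρ ι a) ((EtModW.pull Λ (prA ι)).obj (Gn N)))⟩

end gm

end Groth.Agent.Sga4h.H276.A1
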