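import Groth.Agent.Sga4h.H276.A1a

/-!
# The cohomology of a family over the multiplicative group: main statement

`nonempty_A1`, `isZero_below`.
-/

set_option autoImplicit false
universe u

open CategoryTheory CategoryTheory.Limits AlgebraicGeometry Opposite

namespace Groth.Agent.Sga4h.H276.A1

open Groth.Agent.Sga4h.ModRestr Groth.Agent.Sga4h.EtaleRes Groth.Agent.Etrest.ModAb
  Groth.Agent.Sga4h.H299.ExtBC Groth.Agent.Sga4h.H299.Rs Groth.Agent.Sga4h.H299.AbBasic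
  Groth.Agent.Sga4h.H299.RsBC Groth.Agent.Sga4h.H276.Cp Groth.Agent.Sga4h.H276.GmP
  Groth.Agent.Sga4h.H919.Fam Groth.Agent.EtpbcA.P1Charts Groth.Agent.Sga4h.H919.P1Geo
  Groth.Agent.Sga4h.H919.P1Main Groth.Agent.Etcore.LPullComp
open Groth.Agent.Sga4h.H299.Proj hiding T
open LaurentPolynomial (T)

attribute [local instance] jCont

variable {k : Type u} [Field k] [Fintype k] {Λ : Type (u + 1)} [CommRing Λ] (S : ASys k Λ)
  {n : ℕ} (hn0 : 0 < n) (hn : (n : Λ) = 0) {K : Type u} [Field K] (ρ : k →+* K)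
  {R₀ : Type u} [CommRing R₀] (piL : LaurentPolynomial K →+* R₀) [Cf (Spec.map (CommRingCat.ofHom piL))]
  (σ : R₀) {κ : Type u} [Field κ] (ι : K →+* κ) (m : LaurentPolynomial K →+* LaurentPolynomial κ)
  (hC : m.comp LaurentPolynomial.C = LaurentPolynomial.C.comp ι) (hT : m (T 1) = T 1)
  {R' : Type u} [CommRing R'] (piL' : LaurentPolynomial κ →+* R') [Cf (Spec.map (CommRingCat.ofHom piL'))]
  (mapR : R₀ →+* R') (sq : IsPullback (Spec.map (CommRingCat.ofHom mapR)) (Spec.map (CommRingCat.ofHom piL'))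
    (Spec.map (CommRingCat.ofHom piL)) (Spec.map (CommRingCat.ofHom m))) (a : κ)

/-- The sheaf `sh (σ + a Π⁻¹)` on the total space over `κ`. -/
noncomputable abbrev shA : EtModW.Mod Λ (Spec (CommRingCat.of R')) :=
  S.sh ((piL'.comp (LaurentPolynomial.C.comp ι)).comp ρ) (mapR σ + piL' (LaurentPolynomial.C a * T (-1)))

include sq hC in
theorem nonempty_tw : Nonempty (shA S ρ σ ι piL' mapR a ≅
    (H299.Proj.T ((EtModW.pull Λ (Spec.map (CommRingCat.ofHom piL'))).obj (shInv S ρ ι a))).obj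
      ((EtModW.pull Λ (Spec.map (CommRingCat.ofHom mapR))).obj (shσ S ρ piL σ))) := by
  have hsq : mapR.comp piL = piL'.comp m := by
    have h := sq.w
    rw [← Spec.map_comp, ← Spec.map_comp, ← CommRingCat.ofHom_comp, ← CommRingCat.ofHom_comp] at h
    exact congrArg CommRingCat.Hom.hom (Spec.map_injective h)
  obtain ⟨e0⟩ := sh_congr S (ρ := (piL'.comp (LaurentPolynomial.C.comp ι)).comp ρ) rfl
    (add_comm (mapR σ) (piL' (LaurentPolynomial.C a * T (-1))))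
  obtain ⟨e1⟩ := S.add ((piL'.comp (LaurentPolynomial.C.comp ι)).comp ρ) (piL' (LaurentPolynomial.C a * T (-1)))
    (mapR σ)
  obtain ⟨e2⟩ := sh_pull S ((LaurentPolynomial.C.comp ι).comp ρ) (LaurentPolynomial.C a * T (-1)) piL'
    ((piL'.comp (LaurentPolynomial.C.comp ι)).comp ρ) (piL' (LaurentPolynomial.C a * T (-1))) rfl rfl
  obtain ⟨e3⟩ := sh_pull S ((piL.comp LaurentPolynomial.C).comp ρ) σ mapR
    ((piL'.comp (LaurentPolynomial.C.comp ι)).comp ρ) (mapR σ)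
    (by rw [← RingHom.comp_assoc, ← RingHom.comp_assoc, hsq, RingHom.comp_assoc _ _ piL', hC]) rfl
  exact ⟨e0 ≪≫ e1 ≪≫ (tCongr e2.symm).app _ ≪≫ (H299.Proj.T _).mapIso e3.symm⟩

include hn0 hn sq hC in
/-- The sheaves `R^q` over `G_m`. -/
theorem nonempty_rel (q : ℕ) : Nonempty ((R Λ (Spec.map (CommRingCat.ofHom piL')) q).obj (shA S ρ σ ι piL' mapR a) ≅
    (H299.Proj.T (shInv S ρ ι a)).obj ((EtModW.pull Λ (Spec.map (CommRingCat.ofHom m))).obj
      ((R Λ (Spec.map (CommRingCat.ofHom piL)) q).obj (shσ S ρ piL σ)))) := by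
  obtain ⟨p⟩ := sh_pair S ((LaurentPolynomial.C.comp ι).comp ρ) (LaurentPolynomial.C a * T (-1))
  obtain ⟨e1⟩ := nonempty_tw S ρ piL σ ι m hC piL' mapR sq a
  obtain ⟨e2⟩ := nonempty_proj (Spec.map (CommRingCat.ofHom piL')) p q
    ((EtModW.pull Λ (Spec.map (CommRingCat.ofHom mapR))).obj (shσ S ρ piL σ))
  obtain ⟨e3⟩ := nonempty_bc hn0 hn sq q (shσ S ρ piL σ)
  exact ⟨(R Λ (Spec.map (CommRingCat.ofHom piL')) q).mapIso e1 ≪≫ e2 ≪≫ (H299.Proj.T (shInv S ρ ι a)).mapIso e3.symm⟩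

variable {d : ℕ} (hd : ∀ q, q ≠ d → IsZero ((R Λ (Spec.map (CommRingCat.ofHom piL)) q).obj (shσ S ρ piL σ)))

include hn0 hn sq hC hd in
theorem isZero_rel (q : ℕ) (hq : q ≠ d) :
    IsZero ((R Λ (Spec.map (CommRingCat.ofHom piL')) q).obj (shA S ρ σ ι piL' mapR a)) := by
  obtain ⟨p⟩ := sh_pair S ((LaurentPolynomial.C.comp ι).comp ρ) (LaurentPolynomial.C a * T (-1))
  obtain ⟨e⟩ := nonempty_rel S hn0 hn ρ piL σ ι m hC piL' mapR sq a q
  have := additive_T p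
  exact ((H299.Proj.T (shInv S ρ ι a)).map_isZero
    ((EtModW.pull Λ (Spec.map (CommRingCat.ofHom m))).map_isZero (hd q hq))).of_iso e

variable (f : Spec (CommRingCat.of R') ⟶ Spec (CommRingCat.of κ))
  (w : Spec.map (CommRingCat.ofHom piL') ≫ gstr κ = f) [Cf f] [Cf (gstr κ)]

include hn0 hn sq hC hd w in
/-- Vanishing in degrees `< d`. -/
theorem isZero_below (q : ℕ) (hq : q < d) : IsZero ((R Λ f q).obj (shA S ρ σ ι piL' mapR a)) :=
  isZero_leray_below hn0 hn (Spec.map (CommRingCat.ofHom piL')) (gstr κ) f w d _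
    (fun _ hq => isZero_rel S hn0 hn ρ piL σ ι m hC piL' mapR sq a hd _ hq.ne) q hq

include hn0 hn sq hC hT hd w in
/-- **(A1)**, modules -/
theorem nonempty_A1M (i : Fin (1 + 1)) (q : ℕ) :
    Nonempty ((R Λ f (q + d)).obj (shA S ρ σ ι piL' mapR a) ≅
      (RS Λ (chart i (CommRingCat.of κ)) (toB (CommRingCat.of κ)) q).obj (MA S ρ ι a (Kn S ρ piL σ d))) := by
  obtain ⟨e1⟩ := nonempty_leray hn0 hn (Spec.map (CommRingCat.ofHom piL')) (gstr κ) f w d
    (shA S ρ σ ι piL' mapR a) (fun q hq => isZero_rel S hn0 hn ρ piL σ ι m hC piL' mapR sq a hd q hq) q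
  obtain ⟨e2⟩ := nonempty_rel S hn0 hn ρ piL σ ι m hC piL' mapR sq a d
  obtain ⟨e3⟩ := nonempty_gmM S hn0 hn ρ ι m hC hT a (Kn S ρ piL σ d) i q
  exact ⟨e1 ≪≫ (R Λ (gstr κ) q).mapIso e2 ≪≫ e3⟩

include hn0 hn sq hC hT hd w in
/-- **(A1)** -/
theorem nonempty_A1 (i : Fin (1 + 1)) (q : ℕ) :
    Nonempty ((ab Λ _).obj ((R Λ f (q + d)).obj (shA S ρ σ ι piL' mapR a)) ≅
      (EtCoh.Rpush (toB (CommRingCat.of κ)) q).obj (Fa S ρ i ι a (Gn (Kn S ρ piL σ d)))) := by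
  obtain ⟨e⟩ := nonempty_A1M S hn0 hn ρ piL σ ι m hC hT piL' mapR sq a hd f w i q
  exact ⟨(ab Λ _).mapIso e ≪≫ (rsAb Λ (chart i (CommRingCat.of κ)) (toB (CommRingCat.of κ)) q).app _⟩

end Groth.Agent.Sga4h.H276.A1
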