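import Groth.Agent.Sga4h.H276.A1b
import Groth.Agent.Sga4h.H276.Fin1
import Groth.Agent.Sga4h.H980.Geo2
import Groth.Agent.Etcore.Stalks
import Groth.Agent.Etbase.StalkPull

/-!
# The families over `G_m`: from the fibres to the direct image, and to the projective line

* `isZero_of_geom`;
* `QQ S ρ n`: `H_c(R_n, sh (σ_n + a Π_n⁻¹))` for all `a ≠ 0`;
* `isZero_of_Q`, `rcc_of_Q` : the direct image by `Π_(n+1)`;
* `cc_iff_fa` : (X).
-/

set_option autoImplicit false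
universe u

open CategoryTheory hiding inv
open CategoryTheory.Limits AlgebraicGeometry Opposite

namespace Groth.Agent.Sga4h.H276.A2

open Groth.Agent.Sga4h.ModRestr Groth.Agent.Sga4h.EtaleRes Groth.Agent.Etrest.ModAb
  Groth.Agent.Sga4h.H299.ExtBC Groth.Agent.Sga4h.H299.Rs Groth.Agent.Sga4h.H299.AbBasic
  Groth.Agent.Sga4h.H299.RsBC Groth.Agent.Sga4h.H276.Cp Groth.Agent.Sga4h.H276.GmP
  Groth.Agent.Sga4h.H919.Fam Groth.Agent.EtpbcA.P1Charts Groth.Agent.Sga4h.H919.P1Geo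
  Groth.Agent.Sga4h.H919.P1Main Groth.Agent.Etcore.LPullComp Groth.Agent.Sga4h.H276.A1
  Groth.Agent.Sga4h.H276.Exc Groth.Agent.Sga4h.H919.ConcH Groth.Agent.Sga4h.H980.Fib Groth.Agent.Sga4h.H980.Geo2
open Groth.Agent.Sga4h.H276.Fin1 (str)
open LaurentPolynomial (T)

attribute [local instance] jCont

theorem isZero_of_geom {Λ : Type (u + 1)} [CommRing Λ] {X : Scheme.{u}} (G : EtModW.Mod Λ X)
    (h : ∀ (Ω : Type u) [Field Ω] [IsSepClosed Ω] (ξ : Spec (CommRingCat.of Ω) ⟶ X),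
      IsZero ((EtModW.pull Λ ξ).obj G)) : IsZero G := by
  refine isZero_of_ab (Etcore.Stalks.isZero_of_stalks _ fun z => ?_)
  obtain ⟨Ω, i1, i2, ξ, hξ⟩ := Etcore.Stalks.exists_geom z
  refine ⟨Ω, i1, i2, ξ, hξ, ?_⟩
  have h0 : IsZero ((EtCoh.pull ξ).obj ((ab Λ X).obj G)) :=
    (isZero_ab (h Ω ξ)).of_iso ((pullIso Λ ξ).symm.app G)
  have h1 : IsZero ((EtCoh.stalk (𝟙 (Spec (CommRingCat.of Ω)))).obj ((EtCoh.pull ξ).obj ((ab Λ X).obj G))) :=
    Functor.map_isZero _ h0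
  have h2 := h1.of_iso ((Groth.Agent.Etbase.StalkPull.stalkPullIso ξ (𝟙 _)).app ((ab Λ X).obj G))
  rwa [Category.id_comp] at h2

variable {k : Type u} [Field k] [Fintype k] {Λ : Type (u + 1)} [CommRing Λ] (S : ASys k Λ)
  {N : ℕ} (hN0 : 0 < N) (hN : (N : Λ) = 0)

/-- The product of the coordinates. -/
noncomputable abbrev pin (B : Type u) [CommRing B] (n : ℕ) : Spec (CommRingCat.of (TK B n)) ⟶ Gt B :=
  Spec.map (CommRingCat.ofHom (piL B n))

theorem pin_str (B : Type u) [CommRing B] (n : ℕ) : pin B n ≫ gstr B = str B (TK B n) := by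
  rw [← Spec.map_comp, ← CommRingCat.ofHom_comp, piL_comp_C]

instance locallyOfFiniteType_pin (K : Type u) [Field K] (n : ℕ) : LocallyOfFiniteType (pin K n) := by
  have h : LocallyOfFiniteType (pin K n ≫ gstr K) := by rw [pin_str]; infer_instance
  exact locallyOfFiniteType_of_comp (pin K n) (gstr K)

instance locallyOfFiniteType_gstr (K : Type u) [Field K] : LocallyOfFiniteType (gstr K) := by
  have h : LocallyOfFiniteType (str K (LaurentPolynomial K)) := by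
    have : Algebra.FiniteType K (LaurentPolynomial K) :=
      Algebra.FiniteType.trans (S := Polynomial K) inferInstance
        (IsLocalization.finiteType_of_monoid_fg (Submonoid.powers (Polynomial.X : Polynomial K)) _)
    infer_instance
  exact h

/-- The sheaf `sh σ_n`. -/
noncomputable abbrev sg {K : Type u} [Field K] (ρ : k →+* K) (n : ℕ) :
    EtModW.Mod Λ (Spec (CommRingCat.of (TK K n))) := shσ S ρ (piL K n) (∑ i : Fin n, x i)

/-- The sheaf `sh (σ_n + a Π_n⁻¹)`. -/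
noncomputable abbrev st {K : Type u} [Field K] (ρ : k →+* K) (n : ℕ) (a : K) :
    EtModW.Mod Λ (Spec (CommRingCat.of (TK K n))) :=
  S.sh ((algebraMap K (TK K n)).comp ρ) ((∑ i : Fin n, x i) + algebraMap K (TK K n) a * inv n)

/-- `R^q Π_n! sh σ_n`. -/
noncomputable abbrev KK {K : Type u} [Field K] (ρ : k →+* K) (n q : ℕ) : EtModW.Mod Λ (Gt K) :=
  Kn S ρ (piL K n) (∑ i : Fin n, x i) q

/-- The statement for all `a ≠ 0`. -/
def QQ {K : Type u} [Field K] (ρ : k →+* K) (n : ℕ) : Prop :=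
  ∀ (Ω : Type u) [Field Ω] [IsSepClosed Ω] (ι : K →+* Ω) (a : Ω), a ≠ 0 →
    Cc (str Ω (TK Ω n)) (st S (ι.comp ρ) n a) n (Nat.card Λ ^ (n + 1))

variable {K : Type u} [Field K] (ρ : k →+* K)

section fibre

variable {Ω : Type u} [Field Ω] [IsSepClosed Ω]

omit [IsSepClosed Ω] in
include hN0 hN in
/-- The fibres of the direct image. -/
theorem nonempty_fibre (φ : LaurentPolynomial K →+* Ω) (n q : ℕ) :
    Nonempty ((EtModW.pull Λ (Spec.map (CommRingCat.ofHom φ))).obj (KK S ρ (n + 1) q) ≅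
      (R Λ (str Ω (TK Ω n)) q).obj (st S ((φ.comp LaurentPolynomial.C).comp ρ) n (φ (T 1)))) := by
  let ι : K →+* Ω := φ.comp LaurentPolynomial.C
  let a : Ωˣ := Units.map φ.toMonoidHom (tU K)
  have ha : (a : Ω) = φ (T 1) := rfl
  have hφ : LaurentPolynomial.eval₂ ι a = φ := laurent_ext (by rw [eval₂_comp_C]) (by rw [eval₂_T_one, ha])
  have sq := isPullback_evL ι a n
  rw [hφ] at sq
  obtain ⟨e1⟩ := nonempty_bc hN0 hN sq q (sg S ρ (n + 1))
  obtain ⟨e2⟩ := sh_pull S (((piL K (n + 1)).comp LaurentPolynomial.C).comp ρ) (∑ i : Fin (n + 1), x i) (evL ι a n)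
    ((algebraMap Ω (TK Ω n)).comp (ι.comp ρ)) ((∑ i : Fin n, x i) + algebraMap Ω (TK Ω n) a * inv n)
    (by rw [piL_comp_C, ← RingHom.comp_assoc, evL_comp_algebraMap, RingHom.comp_assoc]) (evL_sum ι a n)
  exact ⟨e1 ≪≫ (R Λ (str Ω (TK Ω n)) q).mapIso e2⟩

omit [IsSepClosed Ω] in
theorem ne_zero_T (φ : LaurentPolynomial K →+* Ω) : φ (T 1) ≠ 0 :=
  (Units.map φ.toMonoidHom (tU K)).ne_zero

end fibre

variable {n : ℕ}

include hN0 hN in
/-- Vanishing of the direct images of `sh σ_(n+1)`. -/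
theorem isZero_of_Q (hQ : QQ S ρ n) (q : ℕ) (hq : q ≠ n) : IsZero (KK S ρ (n + 1) q) := by
  refine isZero_of_geom _ fun Ω _ _ ξ => ?_
  obtain ⟨φ, rfl⟩ := Spec.map_surjective ξ
  obtain ⟨e⟩ := nonempty_fibre S hN0 hN ρ φ.hom n q
  have h := (cc_iff _ _ _ _).1 (hQ Ω (φ.hom.comp LaurentPolynomial.C) (φ.hom (T 1)) (ne_zero_T φ.hom))
  exact (h.1 q hq).of_iso e

include hN0 hN in
/-- The fibres of `R^n Π_(n+1)! sh σ_(n+1)`. -/
theorem card_of_Q (hQ : QQ S ρ n) {Ω : Type u} [Field Ω] [IsSepClosed Ω] (φ : LaurentPolynomial K →+* Ω) :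
    Finite ((ModPoint.Γ Λ _).obj ((EtModW.pull Λ (Spec.map (CommRingCat.ofHom φ))).obj (KK S ρ (n + 1) n)) :
        Type (u + 1)) ∧
      Nat.card ((ModPoint.Γ Λ _).obj ((EtModW.pull Λ (Spec.map (CommRingCat.ofHom φ))).obj (KK S ρ (n + 1) n)) :
        Type (u + 1)) = Nat.card Λ ^ (n + 1) := by
  obtain ⟨e⟩ := nonempty_fibre S hN0 hN ρ φ n n
  have h := (cc_iff _ _ _ _).1 (hQ Ω (φ.comp LaurentPolynomial.C) (φ (T 1)) (ne_zero_T φ))
  have e' := ((ModPoint.Γ Λ _).mapIso e).toLinearEquiv.toEquiv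
  have := h.2.1
  exact ⟨Finite.of_equiv _ e'.symm, (Nat.card_congr e').trans h.2.2⟩

section exit

variable {κ : Type u} [Field κ] (ι : K →+* κ) (a : κ) {d : ℕ}

theorem nonempty_st (n : ℕ) :
    Nonempty (shA S ρ (∑ i : Fin n, x i) ι (piL κ n) (mapRI ι n) a ≅ st S (ι.comp ρ) n a) := by
  refine sh_congr S ?_ ?_
  · rw [← RingHom.comp_assoc, piL_comp_C, RingHom.comp_assoc]
  · rw [mapRI_sum, map_mul, piL_C]
    congr 2
    exact map_T_neg (piL κ n) (inv n) (piL_T n) (prod_mul_inv n)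

variable (hd : ∀ q, q ≠ d → IsZero (KK S ρ n q))

include hN0 hN hd in
/-- **(A1)** for the tori: vanishing. -/
theorem isZero_st (q : ℕ) (hq : q < d) : IsZero ((R Λ (str κ (TK κ n)) q).obj (st S (ι.comp ρ) n a)) := by
  obtain ⟨e⟩ := nonempty_st S ρ ι a n
  exact (isZero_below S hN0 hN ρ (piL K n) (∑ i : Fin n, x i) ι (mapL ι) (mapL_comp_C ι) (piL κ n) (mapRI ι n)
    (isPullback_piL ι n) a hd (str κ (TK κ n)) (pin_str κ n) q hq).of_iso
      ((R Λ (str κ (TK κ n)) q).mapIso e.symm)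

include hN0 hN hd in
/-- **(A1)** for the tori, modules. -/
theorem nonempty_stM (i : Fin (1 + 1)) (q : ℕ) :
    Nonempty ((R Λ (str κ (TK κ n)) (q + d)).obj (st S (ι.comp ρ) n a) ≅
      (RS Λ (chart i (CommRingCat.of κ)) (toB (CommRingCat.of κ)) q).obj (MA S ρ ι a (KK S ρ n d))) := by
  obtain ⟨e⟩ := nonempty_st S ρ ι a n
  obtain ⟨e'⟩ := nonempty_A1M S hN0 hN ρ (piL K n) (∑ i : Fin n, x i) ι (mapL ι) (mapL_comp_C ι) (mapL_T ι)
    (piL κ n) (mapRI ι n) (isPullback_piL ι n) a hd (str κ (TK κ n)) (pin_str κ n) i q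
  exact ⟨(R Λ (str κ (TK κ n)) (q + d)).mapIso e.symm ≪≫ e'⟩

include hN0 hN hd in
/-- **(A1)** for the tori. -/
theorem nonempty_stA (i : Fin (1 + 1)) (q : ℕ) :
    Nonempty ((ab Λ _).obj ((R Λ (str κ (TK κ n)) (q + d)).obj (st S (ι.comp ρ) n a)) ≅
      (EtCoh.Rpush (toB (CommRingCat.of κ)) q).obj (Fa S ρ i ι a (Gn (KK S ρ n d)))) := by
  obtain ⟨e⟩ := nonempty_stM S hN0 hN ρ ι a hd i q
  exact ⟨(ab Λ _).mapIso e ≪≫ (rsAb Λ (chart i (CommRingCat.of κ)) (toB (CommRingCat.of κ)) q).app _⟩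

include hN0 hN hd in
/-- **(X)** -/
theorem cc_iff_fa [IsSepClosed κ] (i : Fin (1 + 1)) (b D : ℕ) :
    Cc (str κ (TK κ n)) (st S (ι.comp ρ) n a) (b + d) D ↔
      ConcAt (PP (CommRingCat.of κ)) (Fa S ρ i ι a (Gn (KK S ρ n d))) b D := by
  rw [cc_iff]
  refine Iff.trans ?_ (concAt_iff_rs (chart i (CommRingCat.of κ)) (toB (CommRingCat.of κ))
    (MA S ρ ι a (KK S ρ n d)) b D).symm
  have e := fun q => nonempty_stM S hN0 hN ρ ι a hd i q
  have hz := fun q hq => isZero_st S hN0 hN ρ ι a hd q hq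
  have e' := ((ModPoint.Γ Λ _).mapIso (e b).some).toLinearEquiv.toEquiv
  constructor
  · rintro ⟨h1, h2, h3⟩
    exact ⟨fun q hq => (h1 (q + d) (fun h => hq (by omega))).of_iso (e q).some.symm, Finite.of_equiv _ e',
      (Nat.card_congr e').symm.trans h3⟩
  · rintro ⟨h1, h2, h3⟩
    refine ⟨fun q hq => ?_, Finite.of_equiv _ e'.symm, (Nat.card_congr e').trans h3⟩
    by_cases hqd : q < d
    · exact hz q hqd
    · obtain ⟨m, rfl⟩ : ∃ m, q = m + d := ⟨q - d, by omega⟩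
      exact (h1 m (fun h => hq (by rw [h]))).of_iso (e m).some

end exit

end Groth.Agent.Sga4h.H276.A2
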