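import Groth.Agent.Sga4h.H276.Exc
import Groth.Agent.Sga4h.H299.KunF
import Groth.Agent.Sga4h.H623.GmGen

/-!
# Künneth formula and the point, for `Cc`
-/

set_option autoImplicit false
universe u

open CategoryTheory CategoryTheory.Limits AlgebraicGeometry Opposite CategoryTheory.Abelian

namespace Groth.Agent.Sga4h.H276.KunC

open Groth.Agent.Sga4h.ModRestr Groth.Agent.Sga4h.EtaleRes Groth.Agent.Etrest.ModAb
  Groth.Agent.Sga4h.H299.ExtBC Groth.Agent.Sga4h.H299.Rs Groth.Agent.Sga4h.H299.AbBasic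
  Groth.Agent.Sga4h.H299.Proj Groth.Agent.Sga4h.H299.RsBC Groth.Agent.Sga4h.H299.Hc
  Groth.Agent.Sga4h.H276.Cp Groth.Agent.Sga4h.H919.ConcH Groth.Agent.Sga4h.H276.Exc

attribute [local instance] jCont

variable {Λ : Type (u + 1)} [Field Λ] [Finite Λ] {K : Type u} [Field K] [IsSepClosed K]
  {n : ℕ} (hn0 : 0 < n) (hn : (n : Λ) = 0)

include hn0 hn in
/-- **Künneth formula.** -/
theorem cc_kunneth {X Y Z : Scheme.{u}} {f : X ⟶ Spec (CommRingCat.of K)} {g : Y ⟶ Spec (CommRingCat.of K)}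
    {h : Z ⟶ Spec (CommRingCat.of K)} {pr1 : Z ⟶ X} {pr2 : Z ⟶ Y} (sq : IsPullback pr1 pr2 f g)
    (w : pr2 ≫ g = h) [Cf f] [Cf g] [Cf h] {M : EtModW.Mod Λ X} {N N' : EtModW.Mod Λ Y}
    (pN : (T N).obj N' ≅ EtModW.constMod Λ Y Λ) {a b d D : ℕ} (hM : Cc f M a (Nat.card Λ ^ d))
    (hN : Cc g N b D) :
    Cc h ((T ((EtModW.pull Λ pr2).obj N)).obj ((EtModW.pull Λ pr1).obj M)) (b + a) (D ^ d) := by
  have sq' : IsPullback pr1 pr2 ((cpt f).j ≫ (cpt f).p) ((cpt g).j ≫ (cpt g).p) := by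
    rw [(cpt f).w, (cpt g).w]
    exact sq
  have w' : (cpt h).j ≫ (cpt h).p = pr2 ≫ (cpt g).j ≫ (cpt g).p := by rw [(cpt g).w, (cpt h).w, w]
  have hc := fun m => Groth.Agent.Sga4h.H299.KunF.card_kunneth hn0 hn sq' w' M pN a d hM.zero hM.card m
  have hD : D ≠ 0 := Exc.ConcAt.ne_zero hN
  have hfin : Nat.card (EtCoh.H (cpt h).P ((EtShriek.extZero (cpt h).j).obj ((ab Λ Z).obj
      ((T ((EtModW.pull Λ pr2).obj N)).obj ((EtModW.pull Λ pr1).obj M)))) (b + a)) = D ^ d := by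
    rw [hc b]
    exact congrArg (fun x => x ^ d) hN.card
  refine ⟨fun q hq => ?_, Nat.finite_of_card_ne_zero (by rw [hfin]; exact pow_ne_zero _ hD), hfin⟩
  by_cases hqa : q < a
  · exact Groth.Agent.Sga4h.H299.KunF.subsingleton_kunneth_below hn0 hn sq' w' M pN a
      (fun q hq => hM.zero q hq.ne) q hqa
  · obtain ⟨m, rfl⟩ : ∃ m, q = m + a := ⟨q - a, by omega⟩
    have hm : m ≠ b := fun h => hq (by rw [h])
    have := hN.zero m hm
    have h1 := hc m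
    have h2 : Nat.card (EtCoh.H (cpt g).P ((EtShriek.extZero (cpt g).j).obj ((ab Λ Y).obj N)) m) = 1 :=
      Nat.card_eq_one_iff_unique.2 ⟨inferInstance, ⟨0⟩⟩
    rw [h2, one_pow] at h1
    exact (Nat.card_eq_one_iff_unique.1 h1).1

omit [Finite Λ] in
include hn0 hn in
/-- The point. -/
theorem cc_point {Y : Scheme.{u}} (f : Y ⟶ Spec (CommRingCat.of K)) [IsIso f] [Cf f] {M : EtModW.Mod Λ Y}
    (e : M ≅ EtModW.constMod Λ Y Λ) [Finite Λ] : Cc f M 0 (Nat.card Λ) := by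
  have hf : IsProper f := inferInstance
  have hc : Cf (𝟙 (Spec (CommRingCat.of K))) := inferInstance
  have h0 : Cc (𝟙 (Spec (CommRingCat.of K))) (EtModW.constMod Λ (Spec (CommRingCat.of K)) Λ) 0 (Nat.card Λ) := by
    rw [cc_iff_cpt hn0 hn ⟨Spec (CommRingCat.of K), 𝟙 _, 𝟙 _, inferInstance, inferInstance, inferInstance,
      Category.comp_id _⟩]
    have h1 : ConcAt (Spec (CommRingCat.of K)) ((ab Λ _).obj (EtModW.constMod Λ (Spec (CommRingCat.of K)) Λ)) 0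
        (Nat.card Λ) := by
      have hc := Groth.Agent.Sga4h.H623.GmGen.card_H_constMod Λ K
      refine ⟨fun q hq => ?_, Nat.finite_of_card_ne_zero (by rw [hc]; exact Nat.card_pos.ne'), hc⟩
      exact Groth.Agent.Vancyc.H680.PointCoh.H_subsingleton _ q (Nat.pos_of_ne_zero hq)
    exact h1.of_iso ((ab Λ _).mapIso ((Groth.Agent.Sga4h.H299.Exc.extId _).symm.app _) ≪≫
      (extAb Λ (𝟙 _)).app _)
  have h2 := Cc.iso hn0 hn (f' := f) f (Category.comp_id f) h0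
  exact h2.of_iso (FixPt.pullUnit f ≪≫ e.symm)

end Groth.Agent.Sga4h.H276.KunC
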