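import Groth.Agent.Sga4h.H276.A2
import Groth.Agent.Sga4h.H276.KunC

/-!
# The cohomology of the torus with coefficients `sh (x_1 + ⋯ + x_n)`

`cc_torus` : concentrated in degree `n`, of order `|Λ|`; `concAt_fa_zero` : the input at `a = 0`.
-/

set_option autoImplicit false
universe u

open CategoryTheory hiding inv
open CategoryTheory.Limits AlgebraicGeometry Opposite

namespace Groth.Agent.Sga4h.H276.A3

open Groth.Agent.Sga4h.ModRestr Groth.Agent.Sga4h.EtaleRes Groth.Agent.Etrest.ModAb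
  Groth.Agent.Sga4h.H299.ExtBC Groth.Agent.Sga4h.H299.Rs Groth.Agent.Sga4h.H299.AbBasic
  Groth.Agent.Sga4h.H299.RsBC Groth.Agent.Sga4h.H276.Cp Groth.Agent.Sga4h.H276.GmP
  Groth.Agent.Sga4h.H919.Fam Groth.Agent.EtpbcA.P1Charts Groth.Agent.Sga4h.H919.P1Geo
  Groth.Agent.Sga4h.H919.P1Main Groth.Agent.Etcore.LPullComp Groth.Agent.Sga4h.H276.A1 Groth.Agent.Sga4h.H276.A2
  Groth.Agent.Sga4h.H276.Exc Groth.Agent.Sga4h.H919.ConcH Groth.Agent.Sga4h.H980.Fib Groth.Agent.Sga4h.H980.Geo2
  Groth.Agent.Sga4h.H276.KunC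
open Groth.Agent.Sga4h.H276.Fin1 (str)
open LaurentPolynomial (T)

attribute [local instance] jCont

section geo

variable (B : Type u) [CommRing B] (n : ℕ)

theorem isUnit_x (n : ℕ) (i : Fin n) : IsUnit (x i : TK B n) := by
  have h : (∏ j : Fin n, (x j : TK B n)) = x i * ∏ j ∈ Finset.univ.erase i, (x j : TK B n) :=
    (Finset.mul_prod_erase _ _ (Finset.mem_univ i)).symm
  have h2 := isUnit_prod_x (K := B) n
  rw [h] at h2
  exact isUnit_of_mul_isUnit_left h2

/-- The last coordinate. -/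
noncomputable def lastR : LaurentPolynomial B →+* TK B (n + 1) :=
  LaurentPolynomial.eval₂ (algebraMap B (TK B (n + 1))) (isUnit_x B (n + 1) (Fin.last n)).unit

theorem lastR_C : (lastR B n).comp LaurentPolynomial.C = algebraMap B (TK B (n + 1)) := eval₂_comp_C _ _

theorem lastR_T : lastR B n (T 1) = x (Fin.last n) := eval₂_T_one _ _

/-- `R_(n+1) = G_m × R_n`. -/
theorem isPullback_last : IsPullback (Spec.map (CommRingCat.ofHom (lastR B n))) (Spec.map (CommRingCat.ofHom (fstR B n)))
    (gstr B) (str B (TK B n)) :=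
  isPullback_of _ _ _ _ (by rw [lastR_C, fstR_comp_algebraMap])
    (fun R _ b c hbc => by
      have hu : IsUnit (∏ i : Fin (n + 1), (Fin.snoc (α := fun _ => R) (fun i => c (x i)) (b (T 1)) : Fin (n + 1) → R) i) := by
        rw [Fin.prod_univ_castSucc]
        simp only [Fin.snoc_castSucc, Fin.snoc_last]
        exact (isUnit_prod_map c).mul ((LaurentPolynomial.isUnit_T (R := B) 1).map b)
      refine ⟨liftR (b.comp LaurentPolynomial.C) _ hu, ?_, ?_⟩
      · refine laurent_ext ?_ ?_
        · rw [RingHom.comp_assoc, lastR_C, liftR_comp_algebraMap]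
        · rw [RingHom.comp_apply, lastR_T, liftR_x, Fin.snoc_last]
      · refine homR_ext ?_ fun i => ?_
        · rw [RingHom.comp_assoc, fstR_comp_algebraMap, liftR_comp_algebraMap, hbc]
        · rw [RingHom.comp_apply, fstR_x, liftR_x, Fin.snoc_castSucc])
    (fun R _ p q h1 h2 => by
      refine homR_ext ?_ fun i => ?_
      · have := congrArg (fun f => f.comp LaurentPolynomial.C) h1
        simpa only [RingHom.comp_assoc, lastR_C] using this
      · refine Fin.lastCases ?_ (fun i => ?_) i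
        · have := RingHom.congr_fun h1 (T 1)
          rwa [RingHom.comp_apply, RingHom.comp_apply, lastR_T] at this
        · have := RingHom.congr_fun h2 (x i)
          rwa [RingHom.comp_apply, RingHom.comp_apply, fstR_x] at this)

end geo

variable {k : Type u} [Field k] [Fintype k] {Λ : Type (u + 1)} [Field Λ] [Finite Λ] (S : ASys k Λ)
  {N : ℕ} (hN0 : 0 < N) (hN : (N : Λ) = 0) {K : Type u} [Field K] [IsSepClosed K]

/-- The sheaf `sh σ_n` on the torus. -/
noncomputable abbrev ss (ρ : k →+* K) (n : ℕ) : EtModW.Mod Λ (Spec (CommRingCat.of (TK K n))) :=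
  S.sh ((algebraMap K (TK K n)).comp ρ) (∑ i : Fin n, x i)

include hN0 hN in
/-- **(K)** -/
theorem cc_torus (ρ : k →+* K)
    (hG : Cc (gstr K) (S.sh (LaurentPolynomial.C.comp ρ) (T 1)) 1 (Nat.card Λ)) (n : ℕ) :
    Cc (str K (TK K n)) (ss S ρ n) n (Nat.card Λ) := by
  induction n with
  | zero =>
    have hi : IsIso (str K (TK K 0)) := by
      have h : str K (TK K 0) = Spec.map (RingEquiv.toCommRingCatIso (zeroEquiv K)).inv := by
        refine congrArg Spec.map ?_
        apply CommRingCat.hom_ext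
        refine RingHom.ext fun b => ?_
        change _ = (zeroEquiv K).symm b
        rw [RingEquiv.eq_symm_apply]
        exact zeroEquiv_algebraMap b
      rw [h]
      infer_instance
    obtain ⟨e⟩ := S.zero ((algebraMap K (TK K 0)).comp ρ)
    obtain ⟨e'⟩ := sh_congr S (ρ := (algebraMap K (TK K 0)).comp ρ) rfl
      (Fin.sum_univ_zero (fun i : Fin 0 => (x i : TK K 0)))
    exact cc_point hN0 hN _ (e' ≪≫ e)
  | succ n ih =>
    obtain ⟨p⟩ := sh_pair S ((algebraMap K (TK K n)).comp ρ) (∑ i : Fin n, x i)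
    have hG' : Cc (gstr K) (S.sh (LaurentPolynomial.C.comp ρ) (T 1)) 1 (Nat.card Λ ^ 1) := by rwa [pow_one]
    have h := cc_kunneth hN0 hN (h := str K (TK K (n + 1))) (isPullback_last K n) (by
      rw [← Spec.map_comp, ← CommRingCat.ofHom_comp, fstR_comp_algebraMap]) p hG' ih
    rw [pow_one] at h
    obtain ⟨e1⟩ := sh_pull S ((algebraMap K (TK K n)).comp ρ) (∑ i : Fin n, x i) (fstR K n)
      ((algebraMap K (TK K (n + 1))).comp ρ) (∑ i : Fin n, x i.castSucc)
      (by rw [← RingHom.comp_assoc, fstR_comp_algebraMap]) (by rw [map_sum]; simp only [fstR_x])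
    obtain ⟨e2⟩ := sh_pull S (LaurentPolynomial.C.comp ρ) (T 1) (lastR K n)
      ((algebraMap K (TK K (n + 1))).comp ρ) (x (Fin.last n))
      (by rw [← RingHom.comp_assoc, lastR_C]) (lastR_T K n)
    obtain ⟨e3⟩ := S.add ((algebraMap K (TK K (n + 1))).comp ρ) (∑ i : Fin n, x i.castSucc) (x (Fin.last n))
    obtain ⟨e4⟩ := sh_congr S (ρ := (algebraMap K (TK K (n + 1))).comp ρ) rfl
      (Fin.sum_univ_castSucc (fun i : Fin (n + 1) => (x i : TK K (n + 1))))
    exact h.of_iso ((H299.Proj.tCongr e1).app _ ≪≫ (H299.Proj.T _).mapIso e2 ≪≫ e3.symm ≪≫ e4.symm)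

end Groth.Agent.Sga4h.H276.A3
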