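import Groth.Agent.Sga4h.H276.A3
import Groth.Agent.Sga4h.H623.Gm
import Mathlib.RingTheory.Henselian
import Mathlib.FieldTheory.IsSepClosed
import Mathlib.FieldTheory.Finite.Basic

/-!
# The base case

* `exists_root_sep`, `exists_root_hens` : solutions of `z ^ q - z = c`;
* `qq_zero` : the statement for `n = 0`;
* `cc_gm` : `H_c(G_m, sh T)`;
* `unip_one` : `K_1` at `0`.
-/

set_option autoImplicit false
universe u

open CategoryTheory hiding inv
open CategoryTheory.Limits AlgebraicGeometry Opposite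

namespace Groth.Agent.Sga4h.H276.A4

open Groth.Agent.Sga4h.ModRestr Groth.Agent.Sga4h.EtaleRes Groth.Agent.Etrest.ModAb
  Groth.Agent.Sga4h.H299.ExtBC Groth.Agent.Sga4h.H299.Rs Groth.Agent.Sga4h.H299.AbBasic
  Groth.Agent.Sga4h.H299.RsBC Groth.Agent.Sga4h.H276.Cp Groth.Agent.Sga4h.H276.GmP
  Groth.Agent.Sga4h.H919.Fam Groth.Agent.EtpbcA.P1Charts Groth.Agent.Sga4h.H919.P1Geo
  Groth.Agent.Sga4h.H919.P1Main Groth.Agent.Etcore.LPullComp Groth.Agent.Sga4h.H276.A1 Groth.Agent.Sga4h.H276.A2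
  Groth.Agent.Sga4h.H276.Exc Groth.Agent.Sga4h.H919.ConcH Groth.Agent.Sga4h.H980.Fib Groth.Agent.Sga4h.H980.Geo2
  Groth.Agent.Sga4h.H276.KunC Groth.Agent.Sga4h.H276.A3
open Groth.Agent.Sga4h.H276.Fin1 (str)
open LaurentPolynomial (T)
open scoped ZeroObject

attribute [local instance] jCont

section roots

variable {k : Type*} [Field k] [Fintype k]

theorem cast_card {R : Type*} [CommRing R] (ρ : k →+* R) : (Fintype.card k : R) = 0 := by
  rw [← map_natCast ρ, FiniteField.cast_card_eq_zero, map_zero]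

open Polynomial in
theorem derivative_as {R : Type*} [CommRing R] (ρ : k →+* R) (c : R) :
    derivative (X ^ Fintype.card k - X - C c : Polynomial R) = -1 := by
  simp only [derivative_sub, derivative_X_pow, derivative_X, derivative_C, cast_card ρ, C_0, zero_mul, sub_zero,
    zero_sub]

open Polynomial in
/-- The equation `z ^ q - z = c` over a separably closed field. -/
theorem exists_root_sep {Ω : Type*} [Field Ω] [IsSepClosed Ω] (ρ : k →+* Ω) (c : Ω) :
    ∃ z : Ω, z ^ Fintype.card k - z = c := by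
  have hq : 1 < Fintype.card k := Fintype.one_lt_card
  let p : Polynomial Ω := X ^ Fintype.card k - X - C c
  have hdeg : p.degree = Fintype.card k := by
    have h1 : (X ^ Fintype.card k - X : Polynomial Ω).degree = Fintype.card k := by
      rw [degree_sub_eq_left_of_degree_lt]
      · exact degree_X_pow _
      · rw [degree_X_pow, degree_X]
        exact_mod_cast hq
    rw [degree_sub_eq_left_of_degree_lt, h1]
    rw [h1]
    exact (degree_C_le).trans_lt (by exact_mod_cast (by omega : 0 < Fintype.card k))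
  have hsep : p.Separable := by
    rw [separable_def, derivative_as ρ c]
    exact ⟨0, -1, by ring⟩
  obtain ⟨z, hz⟩ := IsSepClosed.exists_root p (by rw [hdeg]; exact_mod_cast (by omega : Fintype.card k ≠ 0)) hsep
  refine ⟨z, ?_⟩
  simp only [p, IsRoot.def, eval_sub, eval_pow, eval_X, eval_C] at hz
  exact sub_eq_zero.1 hz

open Polynomial in
/-- The equation `z ^ q - z = c` over a henselian local ring. -/
theorem exists_root_hens {V : Type*} [CommRing V] [HenselianLocalRing V] (ρ : k →+* V) {c : V}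
    (hc : c ∈ IsLocalRing.maximalIdeal V) : ∃ z : V, z ^ Fintype.card k - z = c := by
  have hq : 1 < Fintype.card k := Fintype.one_lt_card
  have hm : (X ^ Fintype.card k - X - C c : Polynomial V).Monic := by
    have h1 : (X ^ Fintype.card k - X - C c : Polynomial V) = X ^ Fintype.card k + (-(X + C c)) := by ring
    rw [h1]
    refine monic_X_pow_add ?_
    rw [degree_neg]
    refine (degree_add_le _ _).trans_lt (max_lt ?_ ?_)
    · exact degree_X_le.trans_lt (by exact_mod_cast hq)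
    · exact degree_C_le.trans_lt (by exact_mod_cast (by omega : 0 < Fintype.card k))
  obtain ⟨z, hz, -⟩ := HenselianLocalRing.is_henselian (X ^ Fintype.card k - X - C c : Polynomial V) hm 0 (by
    simp only [eval_sub, eval_pow, eval_X, eval_C]
    rw [zero_pow (by omega), sub_zero, zero_sub]
    exact neg_mem hc) (by
    rw [derivative_as ρ c, eval_neg, eval_one]
    exact isUnit_one.neg)
  refine ⟨z, ?_⟩
  simp only [IsRoot.def, eval_sub, eval_pow, eval_X, eval_C] at hz
  exact sub_eq_zero.1 hz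

end roots

variable {k : Type u} [Field k] [Fintype k]

section triv

variable {Λ : Type (u + 1)} [CommRing Λ] (S : ASys k Λ)

theorem nonempty_triv {R : Type u} [CommRing R] (ρ : k →+* R) (z f : R) (h : z ^ Fintype.card k - z = f) :
    Nonempty (S.sh ρ f ≅ EtModW.constMod Λ (Spec (CommRingCat.of R)) Λ) := by
  subst h
  exact S.triv ρ z

/-- The sheaf on a torus of dimension zero. -/
theorem nonempty_triv_zero {F : Type u} [CommRing F] (ρ : k →+* F) (a : F)
    (h : ∃ z : F, z ^ Fintype.card k - z = a) : Nonempty (S.sh ((algebraMap F (TK F 0)).comp ρ)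
      ((∑ i : Fin 0, x i) + algebraMap F (TK F 0) a * inv 0) ≅
        EtModW.constMod Λ (Spec (CommRingCat.of (TK F 0))) Λ) := by
  obtain ⟨z, hz⟩ := h
  refine nonempty_triv S _ (algebraMap F (TK F 0) z) _ ?_
  have h1 : (inv 0 : TK F 0) = 1 := by
    have := prod_mul_inv (K := F) 0
    rwa [Fin.prod_univ_zero, one_mul] at this
  rw [← map_pow, ← map_sub, hz, Fin.sum_univ_zero, zero_add, h1, mul_one]

instance isIso_str_zero (F : Type u) [CommRing F] : IsIso (str F (TK F 0)) := by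
  have h : str F (TK F 0) = Spec.map (RingEquiv.toCommRingCatIso (zeroEquiv F)).inv := by
    refine congrArg Spec.map ?_
    apply CommRingCat.hom_ext
    refine RingHom.ext fun b => ?_
    change _ = (zeroEquiv F).symm b
    rw [RingEquiv.eq_symm_apply]
    exact zeroEquiv_algebraMap b
  rw [h]
  infer_instance

variable {N : ℕ} (hN0 : 0 < N) (hN : (N : Λ) = 0)

include hN0 hN in
/-- `R^0 f_!` of the constant sheaf, for an isomorphism `f`. -/
theorem nonempty_R_iso {Y X : Scheme.{u}} (f : Y ⟶ X) [IsIso f] [Cf f] [CompactSpace X] [QuasiSeparatedSpace X]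
    {M : EtModW.Mod Λ Y} (e : M ≅ EtModW.constMod Λ Y Λ) :
    Nonempty ((R Λ f 0).obj M ≅ EtModW.constMod Λ X Λ) := by
  obtain ⟨e1⟩ := nonempty_R hN0 hN (f := 𝟙 X) ⟨X, 𝟙 X, 𝟙 X, inferInstance, inferInstance, inferInstance,
    Category.comp_id _⟩ 0 (EtModW.constMod Λ X Λ)
  obtain ⟨e2⟩ := nonempty_iso hN0 hN (f := 𝟙 X) (f' := f) f (Category.comp_id f) 0 (EtModW.constMod Λ X Λ)
  let e3 : (RS Λ (𝟙 X) (𝟙 X) 0).obj (EtModW.constMod Λ X Λ) ≅ EtModW.constMod Λ X Λ :=
    (EtModW.Rpush Λ (𝟙 X) 0).mapIso ((Groth.Agent.Sga4h.H299.Exc.extId _).app _) ≪≫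
      (Groth.Agent.Sga4h.H299.Leray.rpushIdZero X).app _
  exact ⟨(R Λ f 0).mapIso (e ≪≫ (FixPt.pullUnit f).symm) ≪≫ e2.symm ≪≫ e1 ≪≫ e3⟩

end triv

section main

variable {Λ : Type (u + 1)} [Field Λ] [Finite Λ] (S : ASys k Λ) {N : ℕ} (hN0 : 0 < N) (hN : (N : Λ) = 0)
  {K : Type u} [Field K] (ρ : k →+* K)

include hN0 hN in
/-- The statement for `n = 0`. -/
theorem qq_zero : QQ S ρ 0 := by
  intro Ω _ _ ι a _
  obtain ⟨e⟩ := nonempty_triv_zero S (ι.comp ρ) a (exists_root_sep (ι.comp ρ) a)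
  have h := cc_point hN0 hN (str Ω (TK Ω 0)) e
  rwa [zero_add, pow_one]

include hN0 hN in
/-- `H_c(G_m, sh T)`. -/
theorem cc_gm [IsSepClosed K] (i : Fin (1 + 1)) (hvan : ∀ q, Subsingleton (EtCoh.H (PP (CommRingCat.of K))
      ((EtShriek.extZero (chart i (CommRingCat.of K))).obj ((ab Λ _).obj
        (S.sh ((Polynomial.C : K →+* Polynomial K).comp ρ) (Polynomial.C 1 * Polynomial.X)))) q)) :
    Cc (gstr K) (S.sh (LaurentPolynomial.C.comp ρ) (T 1)) 1 (Nat.card Λ) := by
  have hp : IsProper (toB (CommRingCat.of K)) := Groth.Agent.Dix.ProjProper.isProper_toBase 1 _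
  rw [cc_iff_cpt hN0 hN ⟨PP (CommRingCat.of K), gto K ≫ chart i (CommRingCat.of K), toB (CommRingCat.of K),
    inferInstance, inferInstance, hp, gto_chart_toB K i⟩]
  exact Groth.Agent.Sga4h.H623.Gm.concAt_gm_one S ρ i hvan

include hN0 hN in
/-- The sheaf `K_1` at a point where `z ^ q - z = T` has a solution. -/
theorem unip_one {F : Type u} [Field F] (θ : LaurentPolynomial K →+* F)
    (h : ∃ z : F, z ^ Fintype.card k - z = θ (T 1)) :
    Unip Λ 1 ((EtModW.pull Λ (Spec.map (CommRingCat.ofHom θ))).obj (KK S ρ 1 0)) := by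
  obtain ⟨e1⟩ := nonempty_fibre S hN0 hN ρ θ 0 0
  obtain ⟨e2⟩ := nonempty_triv_zero S ((θ.comp LaurentPolynomial.C).comp ρ) (θ (T 1)) h
  obtain ⟨e3⟩ := nonempty_R_iso hN0 hN (str F (TK F 0)) e2
  refine Unip.of_iso ?_ (e1 ≪≫ e3).symm
  refine ⟨ShortComplex.mk (𝟙 (EtModW.constMod Λ (Spec (CommRingCat.of F)) Λ))
    (0 : _ ⟶ (0 : EtModW.Mod Λ (Spec (CommRingCat.of F)))) comp_zero, ?_, ⟨Iso.refl _⟩, isZero_zero _, ⟨Iso.refl _⟩⟩
  have h0 : Epi (0 : EtModW.constMod Λ (Spec (CommRingCat.of F)) Λ ⟶ (0 : EtModW.Mod Λ (Spec (CommRingCat.of F)))) :=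
    (isZero_zero _).epi _
  refine { exact := ?_, mono_f := inferInstance, epi_g := h0 }
  rw [ShortComplex.exact_iff_epi _ rfl]
  infer_instance

end main

end Groth.Agent.Sga4h.H276.A4
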