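import Groth.Agent.Sga4h.H299.KunF

/-!
# `R^q f_!` for sheaves of modules, compactification chosen once and for all

* `Cpt f`: a compactification of `f`; `R Λ f q := RS Λ j p q` for a chosen one;
* `nonempty_R` : independence; `nonempty_bc` : base change; `nonempty_leray` : one row;
  `nonempty_proj` : projection formula; `nonempty_iso` : isomorphisms.
-/

set_option autoImplicit false
universe u

open CategoryTheory CategoryTheory.Limits AlgebraicGeometry Opposite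

namespace Groth.Agent.Sga4h.H276.Cp

open Groth.Agent.Sga4h.ModRestr Groth.Agent.Sga4h.EtaleRes Groth.Agent.Etrest.ModAb
  Groth.Agent.Sga4h.H299.ExtBC Groth.Agent.Sga4h.H299.Rs Groth.Agent.Sga4h.H299.AbBasic
  Groth.Agent.Sga4h.H299.Proj Groth.Agent.Sga4h.H299.RsBC

attribute [local instance] jCont

/-- A compactification of `f`. -/
structure Cpt {X S : Scheme.{u}} (f : X ⟶ S) where
  /-- the compactification -/
  P : Scheme.{u}
  /-- the open immersion -/
  j : X ⟶ P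
  /-- the proper morphism -/
  p : P ⟶ S
  oj : IsOpenImmersion j
  qj : QuasiCompact j
  pp : IsProper p
  w : j ≫ p = f

attribute [instance] Cpt.oj Cpt.qj Cpt.pp

/-- `f` has a compactification and the base is quasi-compact and quasi-separated. -/
class Cf {X S : Scheme.{u}} (f : X ⟶ S) : Prop where
  out : Nonempty (Cpt f)
  cp : CompactSpace S
  qs : QuasiSeparatedSpace S

instance cf_of {X S : Scheme.{u}} (f : X ⟶ S) [CompactSpace S] [QuasiSeparatedSpace S] [IsSeparated f] [QuasiCompact f]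
    [LocallyOfFiniteType f] : Cf f := by
  obtain ⟨P, j, p, h1, h2, h3, h4⟩ := Groth.Agent.S0384.result f
  exact ⟨⟨⟨P, j, p, h1, h2, h3, h4⟩⟩, inferInstance, inferInstance⟩

/-- A chosen compactification. -/
noncomputable def cpt {X S : Scheme.{u}} (f : X ⟶ S) [h : Cf f] : Cpt f := h.out.some

variable (Λ : Type (u + 1)) [CommRing Λ]

/-- `R^q f_!`. -/
noncomputable def R {X S : Scheme.{u}} (f : X ⟶ S) [Cf f] (q : ℕ) : EtModW.Mod Λ X ⥤ EtModW.Mod Λ S :=
  RS Λ (cpt f).j (cpt f).p q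

instance additive_R {X S : Scheme.{u}} (f : X ⟶ S) [Cf f] (q : ℕ) : (R Λ f q).Additive :=
  inferInstanceAs (RS Λ (cpt f).j (cpt f).p q).Additive

variable {Λ} {n : ℕ} (hn0 : 0 < n) (hn : (n : Λ) = 0)

include hn0 hn

/-- Independence of the compactification. -/
theorem nonempty_R {X S : Scheme.{u}} {f : X ⟶ S} [Cf f] (c : Cpt f) (q : ℕ) (M : EtModW.Mod Λ X) :
    Nonempty ((R Λ f q).obj M ≅ (RS Λ c.j c.p q).obj M) :=
  Groth.Agent.Sga4h.H299.Leray.nonempty_indep hn0 hn (cpt f).j (cpt f).p c.j c.p ((cpt f).w.trans c.w.symm) q M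

/-- Base change. -/
theorem nonempty_bc {X S X' S' : Scheme.{u}} {f : X ⟶ S} {g : S' ⟶ S} {g₁ : X' ⟶ X} {f' : X' ⟶ S'}
    (h : IsPullback g₁ f' f g) [Cf f] [Cf f'] (q : ℕ) (M : EtModW.Mod Λ X) :
    Nonempty ((EtModW.pull Λ g).obj ((R Λ f q).obj M) ≅ (R Λ f' q).obj ((EtModW.pull Λ g₁).obj M)) := by
  have h0 : IsPullback g₁ f' ((cpt f).j ≫ (cpt f).p) g := by rw [(cpt f).w]; exact h
  obtain ⟨P', j', p', gP, h1, h2, h3, h4, h5⟩ := exists_baseChange (cpt f).j (cpt f).p h0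
  have hqc : QuasiCompact j' := MorphismProperty.of_isPullback h4 inferInstance
  obtain ⟨e1⟩ := nonempty_rs_pbc hn0 hn h4 h5 q M
  obtain ⟨e2⟩ := nonempty_R hn0 hn (f := f') ⟨P', j', p', h1, hqc, h2, h3⟩ q ((EtModW.pull Λ g₁).obj M)
  exact ⟨e1 ≪≫ e2.symm⟩

/-- Isomorphisms. -/
theorem nonempty_iso {X X' S : Scheme.{u}} {f : X ⟶ S} {f' : X' ⟶ S} (e : X' ⟶ X) [IsIso e] (w : e ≫ f = f')
    [Cf f] [Cf f'] (q : ℕ) (M : EtModW.Mod Λ X) :
    Nonempty ((R Λ f q).obj M ≅ (R Λ f' q).obj ((EtModW.pull Λ e).obj M)) := by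
  have h : IsPullback e f' f (𝟙 S) := IsPullback.of_horiz_isIso ⟨by rw [w, Category.comp_id]⟩
  obtain ⟨e1⟩ := nonempty_bc hn0 hn h q M
  exact ⟨((Groth.Agent.Etcore.LPullComp.pullId Λ S).app ((R Λ f q).obj M)).symm ≪≫ e1⟩

/-- The Leray spectral sequence, one row. -/
theorem nonempty_leray {X Y S : Scheme.{u}} (f : X ⟶ Y) (g : Y ⟶ S) (h : X ⟶ S) (w : f ≫ g = h) [Cf f] [Cf g] [Cf h]
    (a : ℕ) (M : EtModW.Mod Λ X) (hq : ∀ q, q ≠ a → IsZero ((R Λ f q).obj M)) (m : ℕ) :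
    Nonempty ((R Λ h (m + a)).obj M ≅ (R Λ g m).obj ((R Λ f a).obj M)) := by
  have : CompactSpace S := Cf.cp g
  have : QuasiSeparatedSpace S := Cf.qs g
  have : CompactSpace (cpt g).P := QuasiCompact.compactSpace_of_compactSpace (cpt g).p
  have : QuasiSeparatedSpace (cpt g).P := quasiSeparatedSpace_of_quasiSeparated (cpt g).p
  exact Groth.Agent.Sga4h.H299.Leray.nonempty_leray (cpt f).j (cpt f).p (cpt g).j (cpt g).p (cpt h).j (cpt h).p
    hn0 hn (by
      have h1 := (cpt f).w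
      rw [(cpt h).w, ← w, ← Category.assoc (cpt f).j, h1, (cpt g).w]) a M hq m

/-- Vanishing below the first nonzero row. -/
theorem isZero_leray_below {X Y S : Scheme.{u}} (f : X ⟶ Y) (g : Y ⟶ S) (h : X ⟶ S) (w : f ≫ g = h) [Cf f] [Cf g]
    [Cf h] (a : ℕ) (M : EtModW.Mod Λ X) (hq : ∀ q, q < a → IsZero ((R Λ f q).obj M)) (m : ℕ) (hm : m < a) :
    IsZero ((R Λ h m).obj M) := by
  have : CompactSpace S := Cf.cp g
  have : QuasiSeparatedSpace S := Cf.qs g
  have : CompactSpace (cpt g).P := QuasiCompact.compactSpace_of_compactSpace (cpt g).p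
  have : QuasiSeparatedSpace (cpt g).P := quasiSeparatedSpace_of_quasiSeparated (cpt g).p
  exact Groth.Agent.Sga4h.H299.Leray.isZero_leray_below (cpt f).j (cpt f).p (cpt g).j (cpt g).p (cpt h).j (cpt h).p
    hn0 hn (by
      have h1 := (cpt f).w
      rw [(cpt h).w, ← w, ← Category.assoc (cpt f).j, h1, (cpt g).w]) a M hq m hm

/-- Vanishing when all rows vanish. -/
theorem isZero_leray {X Y S : Scheme.{u}} (f : X ⟶ Y) (g : Y ⟶ S) (h : X ⟶ S) (w : f ≫ g = h) [Cf f] [Cf g]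
    [Cf h] (M : EtModW.Mod Λ X) (hq : ∀ q, IsZero ((R Λ f q).obj M)) (m : ℕ) : IsZero ((R Λ h m).obj M) :=
  isZero_leray_below hn0 hn f g h w (m + 1) M (fun q _ => hq q) m (by omega)

omit hn0 hn in
/-- The projection formula for an invertible sheaf. -/
theorem nonempty_proj {X S : Scheme.{u}} (f : X ⟶ S) [Cf f] {L L' : EtModW.Mod Λ S}
    (p : (T L).obj L' ≅ EtModW.constMod Λ S Λ) (q : ℕ) (M : EtModW.Mod Λ X) :
    Nonempty ((R Λ f q).obj ((T ((EtModW.pull Λ f).obj L)).obj M) ≅ (T L).obj ((R Λ f q).obj M)) :=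
  ⟨(rsT (cpt f).j (cpt f).p f (cpt f).w p q).app M⟩

end Groth.Agent.Sga4h.H276.Cp
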