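import Groth.Agent.Sga4h.H276.Cp
import Groth.Agent.Sga4h.H919.ConcH
import Groth.Agent.Sga4h.H299.HcCard

/-!
# Cohomology with compact supports over a field: concentration in one degree, excision

* `Cc f M d N` : `H_c^q(X, M) = 0` for `q ≠ d`, `|H_c^d(X, M)| = N` (finite); `f : X ⟶ Spec K`;
* `Cc.of_iso`, `cc_iff`, `Cc.of_cpt`, `Cc.iso`;
* `Cc.of_open_zero`, `Cc.open` : excision (from `H299.HcCard`);
* `nonempty_closed` : closed (finite) morphisms.
-/

set_option autoImplicit false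
universe u

open CategoryTheory CategoryTheory.Limits AlgebraicGeometry Opposite CategoryTheory.Abelian

namespace Groth.Agent.Sga4h.H276.Exc

open Groth.Agent.Sga4h.ModRestr Groth.Agent.Sga4h.EtaleRes Groth.Agent.Etrest.ModAb
  Groth.Agent.Sga4h.H299.ExtBC Groth.Agent.Sga4h.H299.Rs Groth.Agent.Sga4h.H299.AbBasic
  Groth.Agent.Sga4h.H299.Proj Groth.Agent.Sga4h.H299.RsBC Groth.Agent.Sga4h.H299.Hc
  Groth.Agent.Sga4h.H276.Cp Groth.Agent.Sga4h.H919.ConcH Groth.Agent.Sga4h.H299.HcK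
  Groth.Agent.Sga4h.H299.HcCard

attribute [local instance] jCont

variable {Λ : Type (u + 1)} [CommRing Λ] {K : Type u} [Field K]

/-- `H_c^q(X, M) = 0` for `q ≠ d` and `H_c^d(X, M)` has `N` elements (and is finite). -/
def Cc {X : Scheme.{u}} (f : X ⟶ Spec (CommRingCat.of K)) [Cf f] (M : EtModW.Mod Λ X) (d N : ℕ) : Prop :=
  ConcAt (cpt f).P ((EtShriek.extZero (cpt f).j).obj ((ab Λ X).obj M)) d N

theorem Cc.of_iso {X : Scheme.{u}} {f : X ⟶ Spec (CommRingCat.of K)} [Cf f] {M M' : EtModW.Mod Λ X} {d N : ℕ}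
    (h : Cc f M d N) (e : M ≅ M') : Cc f M' d N :=
  ConcAt.of_iso ((ab Λ X ⋙ EtShriek.extZero (cpt f).j).mapIso e) h

variable {n : ℕ} (hn0 : 0 < n) (hn : (n : Λ) = 0)

section crit

variable [IsSepClosed K]

/-- Concentration in terms of the sheaves on the point. -/
def RCc (F : ℕ → EtModW.Mod Λ (Spec (CommRingCat.of K))) (d N : ℕ) : Prop :=
  (∀ q, q ≠ d → IsZero (F q)) ∧ Finite ((ModPoint.Γ Λ _).obj (F d) : Type (u + 1)) ∧
    Nat.card ((ModPoint.Γ Λ _).obj (F d) : Type (u + 1)) = N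

omit [IsSepClosed K] in
theorem RCc.congr {F G : ℕ → EtModW.Mod Λ (Spec (CommRingCat.of K))} {d N : ℕ} (h : RCc F d N)
    (e : ∀ q, Nonempty (F q ≅ G q)) : RCc G d N := by
  have e' : ((ModPoint.Γ Λ _).obj (F d) : Type (u + 1)) ≃ ((ModPoint.Γ Λ _).obj (G d) : Type (u + 1)) :=
    ((ModPoint.Γ Λ _).mapIso (e d).some).toLinearEquiv.toEquiv
  have := h.2.1
  exact ⟨fun q hq => (h.1 q hq).of_iso (e q).some.symm, Finite.of_equiv _ e', by
    rw [← h.2.2]; exact (Nat.card_congr e').symm⟩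

theorem concAt_iff_rs {X P : Scheme.{u}} (j : X ⟶ P) [IsOpenImmersion j] (p : P ⟶ Spec (CommRingCat.of K))
    (M : EtModW.Mod Λ X) (d N : ℕ) :
    ConcAt P ((EtShriek.extZero j).obj ((ab Λ X).obj M)) d N ↔ RCc (fun q => (RS Λ j p q).obj M) d N := by
  obtain ⟨e⟩ := nonempty_hcEquiv j p d M
  constructor
  · intro h
    have := h.fin
    exact ⟨fun q hq => (isZero_iff j p q M).2 (h.zero q hq), Finite.of_equiv _ e.symm.toEquiv,
      (Nat.card_congr e.toEquiv).trans h.card⟩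
  · rintro ⟨h1, h2, h3⟩
    exact ⟨fun q hq => (isZero_iff j p q M).1 (h1 q hq), Finite.of_equiv _ e.toEquiv,
      (Nat.card_congr e.toEquiv).symm.trans h3⟩

theorem cc_iff {X : Scheme.{u}} (f : X ⟶ Spec (CommRingCat.of K)) [Cf f] (M : EtModW.Mod Λ X) (d N : ℕ) :
    Cc f M d N ↔ RCc (fun q => (R Λ f q).obj M) d N := concAt_iff_rs _ _ M d N

include hn0 hn in
/-- Independence of the compactification. -/
theorem cc_iff_cpt {X : Scheme.{u}} {f : X ⟶ Spec (CommRingCat.of K)} [Cf f] (c : Cpt f) (M : EtModW.Mod Λ X)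
    (d N : ℕ) : Cc f M d N ↔ ConcAt c.P ((EtShriek.extZero c.j).obj ((ab Λ X).obj M)) d N := by
  rw [cc_iff, concAt_iff_rs _ c.p]
  exact ⟨fun h => h.congr fun q => nonempty_R hn0 hn c q M,
    fun h => h.congr fun q => (nonempty_R hn0 hn c q M).map Iso.symm⟩

include hn0 hn in
/-- Isomorphisms. -/
theorem Cc.iso {X X' : Scheme.{u}} {f : X ⟶ Spec (CommRingCat.of K)} {f' : X' ⟶ Spec (CommRingCat.of K)} [Cf f] [Cf f']
    (e : X' ⟶ X) [IsIso e] (w : e ≫ f = f') {M : EtModW.Mod Λ X} {d N : ℕ} (h : Cc f M d N) :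
    Cc f' ((EtModW.pull Λ e).obj M) d N := by
  rw [cc_iff] at h ⊢
  exact h.congr fun q => nonempty_iso hn0 hn e w q M

end crit

section closed

include hn0 hn in
/-- `R^q` of a finite morphism followed by `f`. -/
theorem nonempty_finite {X Z S : Scheme.{u}} (i : Z ⟶ X) [IsFinite i] (f : X ⟶ S) (g : Z ⟶ S) (w : i ≫ f = g) [Cf f]
    [Cf g] (N : EtModW.Mod Λ Z) (q : ℕ) : Nonempty ((R Λ g q).obj N ≅ (R Λ f q).obj ((EtModW.push Λ i).obj N)) := by
  have : CompactSpace S := Cf.cp g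
  have : QuasiSeparatedSpace S := Cf.qs g
  have : CompactSpace (cpt f).P := QuasiCompact.compactSpace_of_compactSpace (cpt f).p
  have : QuasiSeparatedSpace (cpt f).P := quasiSeparatedSpace_of_quasiSeparated (cpt f).p
  exact Groth.Agent.Sga4h.H299.Exc.nonempty_rs_finite hn0 hn i (cpt f).j (cpt f).p (cpt g).j (cpt g).p
    (by rw [(cpt g).w, (cpt f).w, w]) N q

end closed

section main

variable {X U Z : Scheme.{u}} (o : U ⟶ X) [IsOpenImmersion o] (i : Z ⟶ X) [IsClosedImmersion i]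
  (h : Set.range i = (Set.range o)ᶜ) (f : X ⟶ Spec (CommRingCat.of K)) (fU : U ⟶ Spec (CommRingCat.of K))
  (fZ : Z ⟶ Spec (CommRingCat.of K)) (wU : o ≫ f = fU) (wZ : i ≫ f = fZ) [Cf f] [Cf fU] [Cf fZ]
  [QuasiCompact o]

theorem finite_of_card {A : Type*} {a b : ℕ} (h : Nat.card A = a * b) (ha : a ≠ 0) (hb : b ≠ 0) : Finite A :=
  Nat.finite_of_card_ne_zero (by rw [h]; exact mul_ne_zero ha hb)

theorem ConcAt.ne_zero {P : Scheme.{u}} {F : EtCoh.Ab P} {d N : ℕ} (h : ConcAt P F d N) : N ≠ 0 := by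
  have := h.fin
  rw [← h.card]
  exact Nat.card_pos.ne'

include hn0 hn h wU wZ in
/-- If the open part has no cohomology. -/
theorem Cc.of_open_zero [IsSepClosed K] {M : EtModW.Mod Λ X} {d N : ℕ} (hU : Cc fU ((EtModW.pull Λ o).obj M) 0 1)
    (hZ : Cc fZ ((EtModW.pull Λ i).obj M) d N) : Cc f M d N := by
  have hU' := conc_one_iff.1 hU
  have hr : Set.range o = (Set.range i)ᶜ := by rw [h, compl_compl]
  have e := fun q => hc_closed o i (cpt f).j (cpt f).p (cpt fU).j (cpt fU).p (cpt fZ).j (cpt fZ).p hn0 hn hr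
    (by rw [(cpt fU).w, (cpt f).w, wU]) (by rw [(cpt fZ).w, (cpt f).w, wZ]) M hU' q
  have := hZ.fin
  refine ⟨fun q hq => ?_, ?_, ?_⟩
  · have := hZ.zero q hq
    exact (e q).some.toEquiv.subsingleton
  · exact Finite.of_equiv _ (e d).some.symm.toEquiv
  · rw [← hZ.card]
    exact Nat.card_congr (e d).some.toEquiv

include hn0 hn h wU wZ in
/-- The cohomology of the open part. -/
theorem Cc.open [IsSepClosed K] {M : EtModW.Mod Λ X} {d N N' : ℕ} (hX : Cc f M (d + 1) N)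
    (hZ : Cc fZ ((EtModW.pull Λ i).obj M) d N') : Cc fU ((EtModW.pull Λ o).obj M) (d + 1) (N' * N) := by
  have hr : Set.range o = (Set.range i)ᶜ := by rw [h, compl_compl]
  obtain ⟨h1, h2⟩ := card_open o i (cpt f).j (cpt f).p (cpt fU).j (cpt fU).p (cpt fZ).j (cpt fZ).p hn0 hn hr
    (by rw [(cpt fU).w, (cpt f).w, wU]) (by rw [(cpt fZ).w, (cpt f).w, wZ]) M d hX.zero hZ.zero
  have h3 : Nat.card (HcG (cpt fU).j ((EtModW.pull Λ o).obj M) (d + 1)) = N' * N := by
    rw [h2]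
    exact congrArg₂ _ hZ.card hX.card
  exact ⟨h1, finite_of_card h3 (ConcAt.ne_zero hZ) (ConcAt.ne_zero hX), h3⟩

/-- Vanishing cohomology is concentrated in any degree. -/
theorem cc_one_iff {X : Scheme.{u}} (f : X ⟶ Spec (CommRingCat.of K)) [Cf f] (M : EtModW.Mod Λ X) (d : ℕ) :
    Cc f M d 1 ↔ Cc f M 0 1 := conc_one_iff.trans conc_one_iff.symm

end main

end Groth.Agent.Sga4h.H276.Exc
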