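import Groth.Agent.Sga4h.H912.NormCover
import Groth.Agent.Sga5.H833.GalCover
import Groth.Agent.Sga5.H852.CurveGeo
import Groth.Prelude.Def_SGA5X

/-!
# Galois data over an open subscheme of a proper smooth curve

`Datum j`: the geometric data of the Euler–Poincaré formula (a finite `q : C' → C` with `C'` connected and regular, a
finite group acting, étale Galois over `U`).  `exists_datum`: every finite étale cover of `U` is dominated by the
restriction to `U` of a datum.
-/

set_option autoImplicit false
universe u
open CategoryTheory CategoryTheory.Limits AlgebraicGeometry Opposite TopologicalSpace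

namespace Groth.Agent.Sga4h.H276.NormCov

/-- A (ramified) Galois covering of `C`, étale over `U`. -/
structure Datum {C U : Scheme.{u}} (j : U ⟶ C) [IsOpenImmersion j] where
  C' : Scheme.{u}
  conn : ConnectedSpace C'
  reg : ∀ y : C', IsRegularLocalRing (C'.presheaf.stalk y)
  q : C' ⟶ C
  fin : IsFinite q
  surj : Surjective q
  G : Type
  grp : Group G
  finG : Finite G
  ρ : G →* Aut C'
  hρ : ∀ g : G, (ρ g).hom ≫ q = q
  et : EtCoh.etaleMP (pullback.snd q j)
  free : ∀ y : C', IsClosed ({y} : Set C') → q.base y ∈ Set.range j.base → ∀ g : G, (ρ g).hom.base y = y → g = 1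
  trans : ∀ y₁ y₂ : C', IsClosed ({y₁} : Set C') → IsClosed ({y₂} : Set C') →
    q.base y₁ ∈ Set.range j.base → q.base y₁ = q.base y₂ → ∃ g : G, (ρ g).hom.base y₁ = y₂

namespace Datum

variable {C U : Scheme.{u}} {j : U ⟶ C} [IsOpenImmersion j] (D : Datum j)

instance : ConnectedSpace D.C' := D.conn
instance : IsFinite D.q := D.fin
instance : Surjective D.q := D.surj
instance : Group D.G := D.grp
instance : Finite D.G := D.finG

/-- The restriction of the covering to `U`. -/
noncomputable def WU : FEt.Cat U :=
  MorphismProperty.Over.mk ⊤ (pullback.snd D.q j) ⟨inferInstanceAs (IsFinite (pullback.snd D.q j)), D.et⟩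

end Datum

section norm

variable {X Y : Scheme.{u}} (h : X ⟶ Y) [QuasiCompact h] [QuasiSeparated h]

/-- The action of an endomorphism over the base on the normalization. -/
noncomputable def nmap (φ : X ⟶ X) (w : φ ≫ h = h) : h.normalization ⟶ h.normalization :=
  h.normalizationDesc (φ ≫ h.toNormalization) h.fromNormalization
    (by rw [Category.assoc, h.toNormalization_fromNormalization, w])

theorem to_nmap (φ : X ⟶ X) (w : φ ≫ h = h) : h.toNormalization ≫ nmap h φ w = φ ≫ h.toNormalization :=
  h.toNormalization_normalizationDesc _ _ _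

theorem nmap_from (φ : X ⟶ X) (w : φ ≫ h = h) : nmap h φ w ≫ h.fromNormalization = h.fromNormalization :=
  h.normalizationDesc_comp _ _ _

theorem nmap_eq {φ : X ⟶ X} {w : φ ≫ h = h} {ψ : h.normalization ⟶ h.normalization}
    (h1 : h.toNormalization ≫ ψ = φ ≫ h.toNormalization) (h2 : ψ ≫ h.fromNormalization = h.fromNormalization) :
    ψ = nmap h φ w :=
  Scheme.Hom.normalization.hom_ext h _ _ h.fromNormalization (by rw [h1, to_nmap]) h2 (nmap_from h φ w)

theorem nmap_id : nmap h (𝟙 X) (Category.id_comp h) = 𝟙 _ :=
  (nmap_eq h (by rw [Category.comp_id, Category.id_comp]) (Category.id_comp _)).symm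

theorem nmap_comp (φ ψ : X ⟶ X) (w : φ ≫ h = h) (w' : ψ ≫ h = h) :
    nmap h (φ ≫ ψ) (by rw [Category.assoc, w', w]) = nmap h φ w ≫ nmap h ψ w' :=
  (nmap_eq h (by rw [← Category.assoc, to_nmap, Category.assoc, to_nmap, Category.assoc])
    (by rw [Category.assoc, nmap_from, nmap_from])).symm

end norm

section aut

variable {X Y : Scheme.{u}} (h : X ⟶ Y) [QuasiCompact h] [QuasiSeparated h] {G : Type} [Group G]
  (a : G →* Aut X) (ha : ∀ g, (a g).hom ≫ h = h)

/-- The action of a group of automorphisms over the base on the normalization. -/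
noncomputable def nact : G →* Aut h.normalization where
  toFun g :=
    { hom := nmap h (a g).hom (ha g)
      inv := nmap h (a g⁻¹).hom (ha g⁻¹)
      hom_inv_id := by
        rw [← nmap_comp, ← nmap_id]
        congr 1
        have : a g⁻¹ * a g = 1 := by rw [← map_mul, inv_mul_cancel, map_one]
        exact congrArg Iso.hom this
      inv_hom_id := by
        rw [← nmap_comp, ← nmap_id]
        congr 1
        have : a g * a g⁻¹ = 1 := by rw [← map_mul, mul_inv_cancel, map_one]
        exact congrArg Iso.hom this }
  map_one' := by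
    ext1
    refine Eq.trans ?_ (nmap_id h)
    change nmap h (a 1).hom (ha 1) = _
    congr 1
    rw [map_one]
    rfl
  map_mul' g g' := by
    ext1
    refine Eq.trans ?_ (nmap_comp h (a g').hom (a g).hom (ha g') (ha g))
    change nmap h (a (g * g')).hom (ha (g * g')) = _
    congr 1
    rw [map_mul]
    rfl

theorem nact_hom (g : G) : (nact h a ha g).hom = nmap h (a g).hom (ha g) := rfl

end aut

attribute [local instance] Groth.Agent.Sga5.H833.GalConn.galoisCategory

open Groth.Agent.Sga5.H833.GalConn Groth.Agent.Sga5.H833.GalCover Groth.Agent.Sga4h.H912.NormCover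

/-- **Existence of Galois data** dominating a given cover of `U`. -/
theorem exists_datum {k : Type u} [Field k] [IsAlgClosed k] {C U : Scheme.{u}}
    (f : C ⟶ Spec (CommRingCat.of k)) [ConnectedSpace C] [IsProper f] [SmoothOfRelativeDimension 1 f]
    (j : U ⟶ C) [IsOpenImmersion j] (B : FEt.Cat U) (b : B.left) :
    ∃ D : Datum j, Nonempty (D.WU ⟶ B) := by
  have hCN : IsLocallyNoetherian C := LocallyOfFiniteType.isLocallyNoetherian f
  have hCc : CompactSpace C := QuasiCompact.compactSpace_of_compactSpace f
  have hCn : IsNoetherian C := {}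
  have hCi : IsIntegral C := Groth.Agent.Sga5.H852.CurveGeo.isIntegral f
  have hUne : Nonempty U := ⟨B.hom b⟩
  have hUi : IsIntegral U := isIntegral_of_isOpenImmersion j
  have hUc : ConnectedSpace U := inferInstance
  have hqj : QuasiCompact j := inferInstance
  obtain ⟨A, a, hA⟩ := exists_galois B b
  have hAc : ConnectedSpace A.left := connectedSpace_left A
  have hAf : IsFinite A.hom := A.prop.1
  have hAe : Etale A.hom := A.prop.2
  have hAs : Surjective A.hom := surjective_hom A
  let h : A.left ⟶ C := A.hom ≫ j
  have hhe : Etale h := inferInstance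
  have hsm' : SmoothOfRelativeDimension 1 (h ≫ f) := by
    have : SmoothOfRelativeDimension 0 h := inferInstance
    have h2 : SmoothOfRelativeDimension (0 + 1) (h ≫ f) := inferInstance
    exact h2
  have hsm : Smooth (h ≫ f) := SmoothOfRelativeDimension.smooth 1 _
  have hdim : topologicalKrullDim A.left ≤ 1 := by
    rw [VarietyB.DimTop.topologicalKrullDim_eq_iSup_localDim]
    exact iSup_le fun x => (UnramA.SmoothFibreDim.localDim_eq 1 (h ≫ f) x).le
  have hlqf : LocallyQuasiFinite h := inferInstance
  obtain ⟨h1, h2, h3, h4, h5⟩ := exists_normalization k f h hdim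
  have hw : h.toNormalization ≫ h.fromNormalization = A.hom ≫ j := h.toNormalization_fromNormalization
  have hpb := isPullback_of_finite A.hom j h.toNormalization h.fromNormalization hw
  obtain ⟨G, hG, hGf, ⟨e⟩⟩ := Finite.exists_type_univ_nonempty_mulEquiv.{u, 0} (Aut A)
  let ρ : G →* Aut A.left :=
    (Functor.mapAut A (MorphismProperty.Over.forget FEt.prop ⊤ U ⋙ Over.forget U)).comp
      e.symm.toMonoidHom
  have hρ (g : G) : (ρ g).hom = (e.symm g).hom.left := rfl
  have hρw (g : G) : (ρ g).hom ≫ A.hom = A.hom := MorphismProperty.Over.w (e.symm g).hom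
  have hρh (g : G) : (ρ g).hom ≫ h = h := by
    change (ρ g).hom ≫ A.hom ≫ j = A.hom ≫ j
    rw [reassoc_of% (hρw g)]
  have hj' : Function.Injective j := j.isOpenEmbedding.injective
  have hi' : Function.Injective h.toNormalization := h.toNormalization.isOpenEmbedding.injective
  have hrange : ∀ z : h.normalization, h.fromNormalization z ∈ Set.range j → ∃ y, h.toNormalization y = z := by
    rintro z ⟨x, hx⟩
    obtain ⟨y, hy, -⟩ := Scheme.Pullback.exists_preimage_pullback z x hx.symm
    refine ⟨hpb.isoPullback.inv y, ?_⟩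
    rw [← Scheme.Hom.comp_apply, IsPullback.isoPullback_inv_fst]
    exact hy
  have hnact : ∀ (g : G) (y : A.left), (nact h ρ hρh g).hom (h.toNormalization y) =
      h.toNormalization ((ρ g).hom y) := fun g y => by
    rw [nact_hom, ← Scheme.Hom.comp_apply, to_nmap, Scheme.Hom.comp_apply]
  have hclosed : ∀ y : A.left, IsClosed ({h.toNormalization y} : Set h.normalization) →
      IsClosed ({y} : Set A.left) := by
    intro y hy
    have := hy.preimage h.toNormalization.continuous
    rwa [show (h.toNormalization : A.left → h.normalization) ⁻¹' {h.toNormalization y} = {y} from by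
      ext z
      exact ⟨fun hz => hi' hz, fun hz => congrArg _ hz⟩] at this
  have hqe : ∀ y : A.left, h.fromNormalization (h.toNormalization y) = j (A.hom y) := fun y => by
    rw [← Scheme.Hom.comp_apply, hw, Scheme.Hom.comp_apply]
  have hlft : LocallyOfFiniteType (j ≫ f) := inferInstance
  have hsnd : EtCoh.etaleMP (pullback.snd h.fromNormalization j) := by
    have h6 : pullback.snd h.fromNormalization j = hpb.isoPullback.inv ≫ A.hom :=
      hpb.isoPullback_inv_snd.symm
    change Etale _
    rw [h6]
    infer_instance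
  refine ⟨{
    C' := h.normalization
    conn := ?_
    reg := fun y => Groth.Agent.Sga5.SmoothField.isRegularLocalRing_stalk (h.fromNormalization ≫ f) y
    q := h.fromNormalization
    fin := h2
    surj := ?_
    G := G
    grp := hG
    finG := inferInstance
    ρ := nact h ρ hρh
    hρ := fun g => nmap_from h _ (hρh g)
    et := hsnd
    free := ?_
    trans := ?_ }, ?_⟩
  · have hd := h.toNormalization.denseRange
    have hp : PreconnectedSpace h.normalization := hd.preconnectedSpace h.toNormalization.continuous
    exact { toPreconnectedSpace := hp, toNonempty := ⟨h.toNormalization (Classical.arbitrary _)⟩ }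
  · constructor
    have hcl : IsClosed (Set.range h.fromNormalization) := h.fromNormalization.isClosedMap.isClosed_range
    have hsub : Set.range j ⊆ Set.range h.fromNormalization := by
      rintro _ ⟨x, rfl⟩
      obtain ⟨y, rfl⟩ := hAs.1 x
      exact ⟨h.toNormalization y, hqe y⟩
    have hdj : Dense (Set.range j) := j.isOpenEmbedding.isOpen_range.dense ⟨_, ⟨B.hom b, rfl⟩⟩
    have h7 : Set.range h.fromNormalization = Set.univ := by
      rw [← hcl.closure_eq]
      exact (hdj.mono hsub).closure_eq
    exact Set.range_eq_univ.1 h7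
  · intro z hz hzU g hg
    obtain ⟨y, rfl⟩ := hrange z hzU
    have h8 : (e.symm g).hom.left y = y := hi' ((hnact g y).symm.trans hg)
    have h9 := eq_one_of_fixed (j ≫ f) A (e.symm g) y (hclosed y hz) h8
    rwa [MulEquiv.map_eq_one_iff] at h9
  · intro z₁ z₂ hz₁ hz₂ hzU hzz
    obtain ⟨y₁, rfl⟩ := hrange z₁ hzU
    obtain ⟨y₂, rfl⟩ := hrange z₂ (hzz ▸ hzU)
    have h8 : A.hom y₁ = A.hom y₂ := hj' ((hqe y₁).symm.trans (hzz.trans (hqe y₂)))
    obtain ⟨φ, hφ⟩ := exists_hom_eq (j ≫ f) A y₁ y₂ (hclosed y₁ hz₁) (hclosed y₂ hz₂) h8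
    refine ⟨e φ, (hnact _ _).trans ?_⟩
    rw [hρ, MulEquiv.symm_apply_apply]
    exact congrArg _ hφ
  · exact ⟨(MorphismProperty.Over.homMk hpb.isoPullback.inv hpb.isoPullback_inv_snd trivial : _ ⟶ A) ≫ a⟩

end Groth.Agent.Sga4h.H276.NormCov
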