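import Mathlib.Algebra.BigOperators.Finprod
import Mathlib.Algebra.Module.Submodule.Basic
import Mathlib.Algebra.Field.Defs
import Mathlib.GroupTheory.Coset.Card
import Mathlib.LinearAlgebra.FiniteDimensional.Basic
import Mathlib.FieldTheory.Finiteness
import Mathlib.RingTheory.LittleWedderburn

/-!
# The arithmetic of Swan conductors of twists

`G` a group, `H₀ H₁ : ℕ → Set G` decreasing sequences of subsets (the lower ramification groups at two points),
`M` a finite representation over a finite field, `χ, χ'` characters.  `P r w = ∏ᶠ i, r i ^ w i` and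
`ratio a H = |M| / |M^H|`.  `core`: if the local terms of `χ` are trivial at `0` and those of `χ'` at `∞`, the totals of
`M, χ, χ', M ⊗ χ` are `1, 1, 1, n` with `n = dim M`, then the total of `M ⊗ χ'` is `n + 1`.
-/

set_option autoImplicit false
set_option linter.unusedSectionVars false

namespace Groth.Agent.Sga4h.H276.SwanArith

/-- the product of the `r i ^ w i`. -/
noncomputable def P (r w : ℕ → ℕ) : ℕ := ∏ᶠ i, r i ^ w i

section P

variable {r r' w : ℕ → ℕ} {n : ℕ}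

theorem P_eq_prod (h : ∀ i, n ≤ i → r i = 1) : P r w = ∏ i ∈ Finset.range n, r i ^ w i := by
  refine finprod_eq_prod_of_mulSupport_subset _ fun i hi => ?_
  rw [Finset.coe_range, Set.mem_Iio]
  by_contra hc
  exact hi (by simp only; rw [h i (not_lt.1 hc), one_pow])

theorem P_mono (h : ∀ i, n ≤ i → r i = 1) (h' : ∀ i, n ≤ i → r' i = 1) (hle : ∀ i, r i ≤ r' i) :
    P r w ≤ P r' w := by
  rw [P_eq_prod h, P_eq_prod h']
  exact Finset.prod_le_prod' fun i _ => Nat.pow_le_pow_left (hle i) _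

theorem P_pow (h : ∀ i, n ≤ i → r i = 1) (m : ℕ) : P (fun i => r i ^ m) w = P r w ^ m := by
  rw [P_eq_prod (n := n) (fun i hi => by rw [h i hi, one_pow]), P_eq_prod h, ← Finset.prod_pow]
  refine Finset.prod_congr rfl fun i _ => ?_
  rw [← pow_mul, ← pow_mul, mul_comm]

theorem P_one (h : ∀ i, r i = 1) : P r w = 1 := by
  rw [P_eq_prod (n := 0) (fun i _ => h i)]
  rfl

theorem eq_one_of_P_eq_one (h : ∀ i, n ≤ i → r i = 1) (hw : ∀ i, 0 < w i) (hP : P r w = 1) (i : ℕ) :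
    r i = 1 := by
  by_cases hi : n ≤ i
  · exact h i hi
  · rw [P_eq_prod h, Finset.prod_eq_one_iff] at hP
    have := hP i (Finset.mem_range.2 (not_le.1 hi))
    exact (Nat.pow_eq_one.1 this).resolve_right (hw i).ne'

theorem P_pos (h : ∀ i, n ≤ i → r i = 1) (hr : ∀ i, 0 < r i) : 0 < P r w := by
  rw [P_eq_prod h]
  exact Finset.prod_pos fun i _ => pow_pos (hr i) _

end P

section inv

variable {G : Type*} {M : Type*} [AddCommGroup M]

/-- the invariants of a subset. -/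
def inv (a : G → (M →+ M)) (H : Set G) : AddSubgroup M where
  carrier := {m | ∀ g ∈ H, a g m = m}
  zero_mem' := fun g _ => map_zero (a g)
  add_mem' := by
    intro x y hx hy g hg
    rw [map_add, hx g hg, hy g hg]
  neg_mem' := by
    intro x hx g hg
    rw [map_neg, hx g hg]

theorem mem_inv {a : G → (M →+ M)} {H : Set G} {m : M} : m ∈ inv a H ↔ ∀ g ∈ H, a g m = m := Iff.rfl

/-- the index of the invariants. -/
noncomputable def ratio (a : G → (M →+ M)) (H : Set G) : ℕ := Nat.card M / Nat.card (inv a H)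

theorem ratio_eq_index [Finite M] (a : G → (M →+ M)) (H : Set G) : ratio a H = (inv a H).index := by
  rw [ratio, ← (inv a H).card_mul_index]
  exact Nat.mul_div_cancel_left _ Nat.card_pos

variable {a : G → (M →+ M)} {H H' : Set G}

theorem ratio_pos [Finite M] : 0 < ratio a H := by
  rw [ratio_eq_index]
  exact Nat.pos_of_ne_zero AddSubgroup.index_ne_zero_of_finite

theorem ratio_eq_one_iff [Finite M] : ratio a H = 1 ↔ ∀ g ∈ H, ∀ m, a g m = m := by
  rw [ratio_eq_index, AddSubgroup.index_eq_one]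
  constructor
  · intro h g hg m
    have : m ∈ inv a H := by rw [h]; trivial
    exact this g hg
  · intro h
    rw [eq_top_iff]
    intro m _ g hg
    exact h g hg m

theorem ratio_eq_card [Finite M] (h : ∀ m, (∀ g ∈ H, a g m = m) → m = 0) : ratio a H = Nat.card M := by
  have : inv a H = ⊥ := (AddSubgroup.eq_bot_iff_forall _).2 h
  rw [ratio, this]
  simp

variable {Λ : Type*} [Field Λ] [Finite Λ] [Module Λ M]

/-- the invariants as a subspace. -/
def invSub (ha : ∀ g (c : Λ) m, a g (c • m) = c • a g m) (H : Set G) : Submodule Λ M :=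
  { inv a H with
    smul_mem' := by
      intro c m hm g hg
      rw [ha, hm g hg] }

theorem le_ratio [Finite M] (ha : ∀ g (c : Λ) m, a g (c • m) = c • a g m) (h : ratio a H ≠ 1) :
    Nat.card Λ ≤ ratio a H := by
  rw [ratio_eq_index] at h ⊢
  have h1 : (inv a H).index = Nat.card (M ⧸ invSub ha H) := rfl
  rw [h1] at h ⊢
  have hf : Finite (M ⧸ invSub ha H) := Finite.of_surjective _ (invSub ha H).mkQ_surjective
  have hfd : Module.Finite Λ (M ⧸ invSub ha H) := Module.Finite.of_finite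
  have e := Module.natCard_eq_pow_finrank (K := Λ) (V := M ⧸ invSub ha H)
  rw [e] at h ⊢
  have h2 : Module.finrank Λ (M ⧸ invSub ha H) ≠ 0 := fun h0 => h (by rw [h0, pow_zero])
  exact Nat.le_self_pow h2 _

end inv

section chr

variable {G : Type*} {Λ : Type*} [Field Λ] [Finite Λ] {M N : Type*} [AddCommGroup M] [AddCommGroup N] [Module Λ M]
  [Finite M]

/-- the action through a character. -/
def chr (χ : G → Λ) (g : G) : Λ →+ Λ := AddMonoidHom.mulLeft (χ g)

theorem chr_apply (χ : G → Λ) (g : G) (c : Λ) : chr χ g c = χ g * c := rfl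

theorem ratio_chr_eq_one_iff {χ : G → Λ} {H : Set G} : ratio (chr χ) H = 1 ↔ ∀ g ∈ H, χ g = 1 := by
  rw [ratio_eq_one_iff]
  constructor
  · intro h g hg
    have := h g hg 1
    rwa [chr_apply, mul_one] at this
  · intro h g hg m
    rw [chr_apply, h g hg, one_mul]

theorem ratio_chr_le {χ : G → Λ} {H : Set G} : ratio (chr χ) H ≤ Nat.card Λ := Nat.div_le_self _ _

theorem ratio_chr_of_ne {χ : G → Λ} {H : Set G} (h : ratio (chr χ) H ≠ 1) : ratio (chr χ) H = Nat.card Λ := by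
  rw [Ne, ratio_chr_eq_one_iff] at h
  push Not at h
  obtain ⟨g, hg, hχ⟩ := h
  refine ratio_eq_card fun m hm => ?_
  have h1 := hm g hg
  rw [chr_apply] at h1
  have h2 : (χ g - 1) * m = 0 := by rw [sub_mul, h1, one_mul, sub_self]
  rcases mul_eq_zero.1 h2 with h3 | h3
  · exact absurd (sub_eq_zero.1 h3) hχ
  · exact h3

/-- `N = M ⊗ χ`. -/
structure IsTw (aM : G → (M →+ M)) (aN : G → (N →+ N)) (χ : G → Λ) where
  e : N ≃+ M
  he : ∀ g x, e (aN g x) = χ g • aM g (e x)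

variable {aM : G → (M →+ M)} {aN : G → (N →+ N)} {χ : G → Λ} {H : Set G}

theorem IsTw.card_eq (t : IsTw aM aN χ) : Nat.card N = Nat.card M := Nat.card_congr t.e.toEquiv

/-- if the character is trivial on `H` the invariants have the same order. -/
theorem IsTw.ratio_eq (t : IsTw aM aN χ) (h : ∀ g ∈ H, χ g = 1) : ratio aN H = ratio aM H := by
  have : Nat.card (inv aN H) = Nat.card (inv aM H) := by
    refine Nat.card_congr (t.e.toEquiv.subtypeEquiv fun x => ?_)
    change (∀ g ∈ H, aN g x = x) ↔ ∀ g ∈ H, aM g (t.e x) = t.e x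
    refine forall₂_congr fun g hg => ?_
    rw [← t.e.apply_eq_iff_eq, t.he, h g hg, one_smul]
  rw [ratio, ratio, this, t.card_eq]

/-- if `H` acts trivially on `M` and not on `χ`, the twist has no invariants. -/
theorem IsTw.ratio_of_ne (t : IsTw aM aN χ) {g : G} (hg : g ∈ H) (hM : ∀ m, aM g m = m) (hχ : χ g ≠ 1) :
    ratio aN H = Nat.card M := by
  have hN : Finite N := Finite.of_equiv _ t.e.symm.toEquiv
  rw [← t.card_eq]
  refine ratio_eq_card fun x hx => ?_
  have h1 := t.he g x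
  rw [hx g hg, hM] at h1
  have h2 : (χ g - 1) • t.e x = 0 := by rw [sub_smul, one_smul, ← h1, sub_self]
  rcases smul_eq_zero.1 h2 with h3 | h3
  · exact absurd (sub_eq_zero.1 h3) hχ
  · exact (map_eq_zero_iff t.e t.e.injective).1 h3

/-- if `H` acts trivially on `M`, the terms of the twist are the powers of those of the character. -/
theorem IsTw.ratio_eq_pow (t : IsTw aM aN χ) {n : ℕ} (hn : Nat.card M = Nat.card Λ ^ n)
    (hM : ∀ g ∈ H, ∀ m, aM g m = m) : ratio aN H = ratio (chr χ) H ^ n := by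
  by_cases h : ratio (chr χ) H = 1
  · rw [h, one_pow, t.ratio_eq (ratio_chr_eq_one_iff.1 h), ratio_eq_one_iff]
    exact hM
  · rw [ratio_chr_of_ne h]
    rw [ratio_chr_eq_one_iff] at h
    push Not at h
    obtain ⟨g, hg, hχ⟩ := h
    rw [t.ratio_of_ne hg (hM g hg) hχ, hn]

/-- **The dichotomy**: the wild part of `χ` is contained in that of `M`, or that of `M ⊗ χ` is the largest
possible. -/
theorem IsTw.dich (t : IsTw aM aN χ) {n : ℕ} (hn : Nat.card M = Nat.card Λ ^ n)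
    (hl : ∀ g (c : Λ) m, aM g (c • m) = c • aM g m) {H : ℕ → Set G} (hH : Antitone H) {k : ℕ}
    (hk : ∀ i, k ≤ i → ratio (chr χ) (H i) = 1) :
    (∀ i, ratio (chr χ) (H i) ≤ ratio aM (H i)) ∨ ∀ i, ratio (chr χ) (H i) ^ n ≤ ratio aN (H i) := by
  classical
  have hN : Finite N := Finite.of_equiv _ t.e.symm.toEquiv
  by_cases h0 : ∃ i, ratio (chr χ) (H i) ≠ 1
  · obtain ⟨i₀, hi₀⟩ := h0
    let m := Nat.findGreatest (fun i => ratio (chr χ) (H i) ≠ 1) k
    have hi₀k : i₀ ≤ k := by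
      by_contra hc
      exact hi₀ (hk i₀ (not_le.1 hc).le)
    have hm : ratio (chr χ) (H m) ≠ 1 := Nat.findGreatest_spec (P := fun i => ratio (chr χ) (H i) ≠ 1) hi₀k hi₀
    have hm' : ∀ i, m < i → ratio (chr χ) (H i) = 1 := by
      intro i hi
      by_cases hik : i ≤ k
      · by_contra hc
        exact Nat.findGreatest_is_greatest hi hik hc
      · exact hk i (not_le.1 hik).le
    by_cases hM : ∀ g ∈ H m, ∀ x, aM g x = x
    · right
      intro i
      by_cases hi : i ≤ m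
      · refine (Nat.pow_le_pow_left ratio_chr_le n).trans ?_
        rw [Ne, ratio_chr_eq_one_iff] at hm
        push Not at hm
        obtain ⟨g, hg, hχ⟩ := hm
        rw [t.ratio_of_ne (hH hi hg) (hM g hg) hχ, hn]
      · rw [hm' i (not_le.1 hi), one_pow]
        exact ratio_pos
    · left
      intro i
      by_cases hi : i ≤ m
      · refine ratio_chr_le.trans (le_ratio hl fun hc => hM ?_)
        rw [ratio_eq_one_iff] at hc
        exact fun g hg => hc g (hH hi hg)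
      · rw [hm' i (not_le.1 hi)]
        exact ratio_pos
  · push Not at h0
    left
    intro i
    rw [h0 i]
    exact ratio_pos

end chr

section core

variable {G : Type*} {Λ : Type*} [Field Λ] [Finite Λ] {M N N' : Type*} [AddCommGroup M] [AddCommGroup N]
  [AddCommGroup N'] [Module Λ M] [Finite M]
  {aM : G → (M →+ M)} {aN : G → (N →+ N)} {aN' : G → (N' →+ N')} {χ χ' : G → Λ}

/-- the local term. -/
noncomputable def loc {M : Type*} [AddCommGroup M] (a : G → (M →+ M)) (H : ℕ → Set G) (w : ℕ → ℕ) : ℕ :=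
  P (fun i => ratio a (H i)) w

/-- **Numerical core**: from the totals `1, 1, 1, n` of `M, χ, χ', M ⊗ χ` (where `χ` is unramified at `0`, `χ'` at
`∞`) to the total `n + 1` of `M ⊗ χ'`. -/
theorem core (t : IsTw aM aN χ) (t' : IsTw aM aN' χ') {n : ℕ} (hn : Nat.card M = Nat.card Λ ^ n)
    (hl : ∀ g (c : Λ) m, aM g (c • m) = c • aM g m) {H₀ H₁ : ℕ → Set G} (hH₁ : Antitone H₁)
    (w₀ w₁ : ℕ → ℕ) (hw₀ : ∀ i, 0 < w₀ i) {k : ℕ}
    (hk₀M : ∀ i, k ≤ i → ∀ g ∈ H₀ i, ∀ m, aM g m = m) (hk₁M : ∀ i, k ≤ i → ∀ g ∈ H₁ i, ∀ m, aM g m = m)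
    (hk₀' : ∀ i, k ≤ i → ∀ g ∈ H₀ i, χ' g = 1) (hk₁ : ∀ i, k ≤ i → ∀ g ∈ H₁ i, χ g = 1)
    (hu : ∀ i, ∀ g ∈ H₀ i, χ g = 1) (hu' : ∀ i, ∀ g ∈ H₁ i, χ' g = 1) {c : ℕ}
    (h1 : loc aM H₀ w₀ * loc aM H₁ w₁ = Nat.card Λ ^ c)
    (h2 : loc (chr χ) H₀ w₀ * loc (chr χ) H₁ w₁ = Nat.card Λ ^ c)
    (h3 : loc (chr χ') H₀ w₀ * loc (chr χ') H₁ w₁ = Nat.card Λ ^ c)
    (h4 : loc aN H₀ w₀ * loc aN H₁ w₁ = Nat.card Λ ^ (n * c)) :
    (∀ i, ∀ g ∈ H₀ i, ∀ m, aM g m = m) ∧ loc aM H₁ w₁ = Nat.card Λ ^ c ∧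
      loc aN' H₀ w₀ * loc aN' H₁ w₁ = Nat.card Λ ^ ((n + 1) * c) := by
  have hN : Finite N := Finite.of_equiv _ t.e.symm.toEquiv
  have hcard : 0 < Nat.card Λ := Nat.card_pos
  have u0 : loc (chr χ) H₀ w₀ = 1 := P_one fun i => ratio_chr_eq_one_iff.2 (hu i)
  have u1 : loc (chr χ') H₁ w₁ = 1 := P_one fun i => ratio_chr_eq_one_iff.2 (hu' i)
  rw [u0, one_mul] at h2
  rw [u1, mul_one] at h3
  have eM₀ : ∀ i, k ≤ i → ratio aM (H₀ i) = 1 := fun i hi => ratio_eq_one_iff.2 (hk₀M i hi)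
  have eM₁ : ∀ i, k ≤ i → ratio aM (H₁ i) = 1 := fun i hi => ratio_eq_one_iff.2 (hk₁M i hi)
  have eχ₁ : ∀ i, k ≤ i → ratio (chr χ) (H₁ i) = 1 := fun i hi => ratio_chr_eq_one_iff.2 (hk₁ i hi)
  have eχ₀' : ∀ i, k ≤ i → ratio (chr χ') (H₀ i) = 1 := fun i hi => ratio_chr_eq_one_iff.2 (hk₀' i hi)
  have eN₁ : ∀ i, k ≤ i → ratio aN (H₁ i) = 1 := fun i hi => by
    rw [t.ratio_eq (hk₁ i hi), eM₁ i hi]
  have n0 : loc aN H₀ w₀ = loc aM H₀ w₀ := by
    refine congrArg (fun r => P r w₀) ?_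
    funext i
    exact t.ratio_eq (hu i)
  have n1 : loc aN' H₁ w₁ = loc aM H₁ w₁ := by
    refine congrArg (fun r => P r w₁) ?_
    funext i
    exact t'.ratio_eq (hu' i)
  have hone : loc aM H₀ w₀ = 1 := by
    have pos : 0 < loc aM H₀ w₀ := P_pos eM₀ fun i => ratio_pos
    rcases t.dich hn hl hH₁ eχ₁ with hd | hd
    · have h5 : Nat.card Λ ^ c ≤ loc aM H₁ w₁ := by
        rw [← h2]
        exact P_mono eχ₁ eM₁ hd
      have h6 : 0 < Nat.card Λ ^ c := pow_pos hcard _
      by_contra hc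
      have h7 : 2 ≤ loc aM H₀ w₀ := by omega
      have h8 : 2 * Nat.card Λ ^ c ≤ loc aM H₀ w₀ * loc aM H₁ w₁ := Nat.mul_le_mul h7 h5
      omega
    · have h5 : Nat.card Λ ^ (n * c) ≤ loc aN H₁ w₁ := by
        rw [mul_comm n c, pow_mul, ← h2]
        unfold loc
        rw [← P_pow eχ₁ n]
        exact P_mono (fun i hi => by rw [eχ₁ i hi, one_pow]) eN₁ hd
      have h6 : 0 < Nat.card Λ ^ (n * c) := pow_pos hcard _
      rw [n0] at h4
      by_contra hc
      have h7 : 2 ≤ loc aM H₀ w₀ := by omega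
      have h8 : 2 * Nat.card Λ ^ (n * c) ≤ loc aM H₀ w₀ * loc aN H₁ w₁ := Nat.mul_le_mul h7 h5
      omega
  have htr : ∀ i, ∀ g ∈ H₀ i, ∀ m, aM g m = m := fun i =>
    ratio_eq_one_iff.1 (eq_one_of_P_eq_one eM₀ hw₀ hone i)
  rw [hone, one_mul] at h1
  refine ⟨htr, h1, ?_⟩
  have n2 : loc aN' H₀ w₀ = loc (chr χ') H₀ w₀ ^ n := by
    unfold loc
    rw [← P_pow eχ₀' n]
    refine congrArg (fun r => P r w₀) ?_
    funext i
    exact t'.ratio_eq_pow hn (htr i)
  rw [n1, n2, h3, h1, ← pow_mul, ← pow_add]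
  congr 1
  ring

end core

end Groth.Agent.Sga4h.H276.SwanArith
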