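import Groth.Agent.Sga5.FlcClopen
import Mathlib.AlgebraicGeometry.AlgClosed.Basic
import Mathlib.AlgebraicGeometry.Sites.EtalePoint
import Mathlib.AlgebraicGeometry.Morphisms.UniversallyOpen
import Mathlib.AlgebraicGeometry.FunctionField

/-!
# Inertia acts trivially on unramified sheaves

`q : Y → X`, `W ⊆ Y` open, étale over `X`, `g` an automorphism of `Y` over `X` preserving `W` and fixing a closed
point `y`, `F` an étale sheaf on `X` which becomes constant on an étale `T → X` whose image contains `q(y)`: then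
`g^* s = s` for all `s ∈ F(W)`, near some point of `W`.
-/

set_option autoImplicit false
universe u
open CategoryTheory CategoryTheory.Limits AlgebraicGeometry Opposite TopologicalSpace

namespace Groth.Agent.Sga4h.H276.Inertia

open Groth.Agent.Etbase Groth.Agent.Etcore Groth.Agent.EtpbcA Groth.Agent.EtpbcA.ConsVan

/-- If the local ring is a domain, there is a smallest generization. -/
theorem exists_gen {P : Scheme.{u}} (v : P) [IsDomain (P.presheaf.stalk v)] :
    ∃ η : P, η ⤳ v ∧ ∀ z, z ⤳ v → η ⤳ z := by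
  let η : P := P.fromSpecStalk v (⊥ : PrimeSpectrum (P.presheaf.stalk v))
  have h : ∀ z : P, z ⤳ v → η ⤳ z := by
    intro z hz
    have h1 : z ∈ Set.range (P.fromSpecStalk v) := by
      rw [Scheme.range_fromSpecStalk]
      exact hz
    obtain ⟨p, rfl⟩ := h1
    have h2 : (⊥ : PrimeSpectrum (P.presheaf.stalk v)) ⤳ p :=
      (PrimeSpectrum.le_iff_specializes _ _).1 bot_le
    exact h2.map (P.fromSpecStalk v).continuous
  refine ⟨η, ?_, h⟩
  have h1 : η ∈ Set.range (P.fromSpecStalk v) := ⟨_, rfl⟩
  rw [Scheme.range_fromSpecStalk] at h1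
  exact h1

/-- The smallest generization of a fixed point of an automorphism is fixed. -/
theorem fixed_gen {P : Scheme.{u}} (g : P ≅ P) {v η : P} (hv : g.hom v = v) (h1 : η ⤳ v)
    (h2 : ∀ z, z ⤳ v → η ⤳ z) : g.hom η = η := by
  have hinv : ∀ z, g.inv (g.hom z) = z := fun z => by
    rw [← Scheme.Hom.comp_apply, g.hom_inv_id]
    rfl
  have hinv' : ∀ z, g.hom (g.inv z) = z := fun z => by
    rw [← Scheme.Hom.comp_apply, g.inv_hom_id]
    rfl
  have hv' : g.inv v = v := by
    conv_lhs => rw [← hv]
    exact hinv v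
  have a1 : η ⤳ g.hom η := by
    apply h2
    have := h1.map g.hom.continuous
    rwa [hv] at this
  have a2 : η ⤳ g.inv η := by
    apply h2
    have := h1.map g.inv.continuous
    rwa [hv'] at this
  have a3 := a2.map g.hom.continuous
  rw [hinv'] at a3
  exact (a3.antisymm a1).eq

section

variable {X Y : Scheme.{u}} (q : Y ⟶ X) (T : X.Etale)

/-- The action on `T ×_X Y`. -/
noncomputable def pmap (g : Y ⟶ Y) (hg : g ≫ q = q) : pullback T.hom q ⟶ pullback T.hom q :=
  pullback.lift (pullback.fst _ _) (pullback.snd _ _ ≫ g) (by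
    rw [Category.assoc, hg]; exact pullback.condition)

theorem pmap_fst (g : Y ⟶ Y) (hg : g ≫ q = q) : pmap q T g hg ≫ pullback.fst _ _ = pullback.fst _ _ :=
  pullback.lift_fst _ _ _

theorem pmap_snd (g : Y ⟶ Y) (hg : g ≫ q = q) :
    pmap q T g hg ≫ pullback.snd _ _ = pullback.snd _ _ ≫ g := pullback.lift_snd _ _ _

/-- The automorphism of `T ×_X Y`. -/
noncomputable def piso (g : Y ≅ Y) (hg : g.hom ≫ q = q) (hg' : g.inv ≫ q = q) :
    pullback T.hom q ≅ pullback T.hom q where
  hom := pmap q T g.hom hg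
  inv := pmap q T g.inv hg'
  hom_inv_id := by
    apply pullback.hom_ext
    · rw [Category.assoc, pmap_fst, pmap_fst, Category.id_comp]
    · rw [Category.assoc, pmap_snd, ← Category.assoc, pmap_snd, Category.assoc, g.hom_inv_id,
        Category.comp_id, Category.id_comp]
  inv_hom_id := by
    apply pullback.hom_ext
    · rw [Category.assoc, pmap_fst, pmap_fst, Category.id_comp]
    · rw [Category.assoc, pmap_snd, ← Category.assoc, pmap_snd, Category.assoc, g.inv_hom_id,
        Category.comp_id, Category.id_comp]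

variable {T}

theorem exists_van [IsIntegral Y] (W : X.Etale) [Nonempty W.left] (i : W.left ⟶ Y) [IsOpenImmersion i]
    (hi : i ≫ q = W.hom) (γ : W ⟶ W) (g : Y ≅ Y) (hg : g.hom ≫ q = q) (hγ : γ.left ≫ i = i ≫ g.hom)
    (F : EtCoh.Ab X) {N : Type*} [AddCommGroup N] (φ : N →+ EtCoh.sect F T) (hφ : ∀ t, SurjAt F φ t)
    (v : (pullback T.hom q : Scheme.{u})) (hv : pmap q T g.hom hg v = v)
    [IsDomain ((pullback T.hom q : Scheme.{u}).presheaf.stalk v)] (s : EtCoh.sect F W) :
    ∃ w, Van F (res F γ s - s) w := by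
  have hg' : g.inv ≫ q = q := by
    rw [Iso.inv_comp_eq]
    exact hg.symm
  obtain ⟨η, hη1, hη2⟩ := exists_gen v
  have hfix : pmap q T g.hom hg η = η := fixed_gen (piso q T g hg hg') hv hη1 hη2
  have het : Etale T.hom := T.prop
  have hflat : Flat (pullback.snd T.hom q) := inferInstance
  -- the image of `η` is the generic point of `Y`
  have hgen : pullback.snd T.hom q η = genericPoint Y := by
    have h1 : genericPoint Y ⤳ pullback.snd T.hom q v := genericPoint_specializes _
    obtain ⟨z, hz, hz'⟩ := Flat.generalizingMap (pullback.snd T.hom q) h1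
    have h2 := (hη2 z hz).map (pullback.snd T.hom q).continuous
    rw [hz'] at h2
    exact (h2.antisymm (genericPoint_specializes _)).eq
  have hmem : genericPoint Y ∈ Set.range i := by
    have h1 : IsOpen (Set.range i) := i.isOpenEmbedding.isOpen_range
    exact ((genericPoint_spec Y).mem_open_set_iff h1).2 ⟨_, trivial, Set.mem_range_self (Classical.arbitrary _)⟩
  obtain ⟨w₀, hw₀⟩ := hmem
  have hW : Etale W.hom := W.prop
  let PU : X.Etale := Scheme.Etale.mk (pullback.fst T.hom W.hom ≫ T.hom)
  let ι : (pullback T.hom W.hom : Scheme.{u}) ⟶ pullback T.hom q :=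
    pullback.lift (pullback.fst _ _) (pullback.snd _ _ ≫ i) (by
      rw [Category.assoc, hi]; exact pullback.condition)
  have hι1 : ι ≫ pullback.fst _ _ = pullback.fst _ _ := pullback.lift_fst _ _ _
  have hι2 : ι ≫ pullback.snd _ _ = pullback.snd _ _ ≫ i := pullback.lift_snd _ _ _
  have hpb : IsPullback ι (pullback.snd T.hom W.hom) (pullback.snd T.hom q) i := by
    refine IsPullback.of_right (h₁₂ := pullback.fst T.hom q) (h₂₂ := q) (v₁₃ := T.hom) ?_ hι2 ?_
    · rw [hι1, hi]
      exact IsPullback.of_hasPullback _ _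
    · exact (IsPullback.of_hasPullback _ _)
  have hιo : IsOpenImmersion ι := MorphismProperty.of_isPullback (P := @IsOpenImmersion) hpb.flip inferInstance
  obtain ⟨z', hz1, hz2⟩ := Scheme.Pullback.exists_preimage_pullback (f := pullback.snd T.hom q) (g := i) η w₀
    (by rw [hgen, hw₀])
  let z : PU.left := hpb.isoPullback.inv z'
  have hz : ι z = η := by
    change ι (hpb.isoPullback.inv z') = η
    rw [← Scheme.Hom.comp_apply, hpb.isoPullback_inv_fst]
    exact hz1
  let γl : (pullback T.hom W.hom : Scheme.{u}) ⟶ pullback T.hom W.hom :=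
    pullback.lift (pullback.fst _ _) (pullback.snd _ _ ≫ γ.left) (by
      rw [Category.assoc]
      have : γ.left ≫ W.hom = W.hom := MorphismProperty.Over.w γ
      rw [this]; exact pullback.condition)
  have hγ1 : γl ≫ pullback.fst _ _ = pullback.fst _ _ := pullback.lift_fst _ _ _
  have hγ2 : γl ≫ pullback.snd _ _ = pullback.snd _ _ ≫ γ.left := pullback.lift_snd _ _ _
  let γ' : PU ⟶ PU := MorphismProperty.Over.homMk γl (by
    change γl ≫ pullback.fst _ _ ≫ T.hom = pullback.fst _ _ ≫ T.hom
    rw [reassoc_of% hγ1]) trivial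
  let a : PU ⟶ T := MorphismProperty.Over.homMk (pullback.fst T.hom W.hom) rfl trivial
  let b : PU ⟶ W := MorphismProperty.Over.homMk (pullback.snd T.hom W.hom) pullback.condition.symm trivial
  have ha : γ' ≫ a = a := by
    apply MorphismProperty.Over.Hom.ext
    exact hγ1
  have hb : γ' ≫ b = b ≫ γ := by
    apply MorphismProperty.Over.Hom.ext
    exact hγ2
  have hcomm : γl ≫ ι = ι ≫ pmap q T g.hom hg := by
    apply pullback.hom_ext
    · rw [Category.assoc, Category.assoc, hι1, hγ1, pmap_fst, hι1]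
    · rw [Category.assoc, Category.assoc, hι2, reassoc_of% hγ2, hγ, pmap_snd, reassoc_of% hι2]
  have hzfix : γ'.left z = z := by
    apply ι.isOpenEmbedding.injective
    change ι (γl z) = ι z
    rw [← Scheme.Hom.comp_apply, hcomm, Scheme.Hom.comp_apply, hz, hfix]
  obtain ⟨m, hm⟩ := hφ (a.left z) PU a z rfl (res F b s)
  refine ⟨b.left z, Van.of_res b z ?_⟩
  have h1 : Van F (res F γ' (res F b s - res F a (φ m))) z := by
    apply Van.res
    rw [hzfix]
    exact hm
  rw [map_sub, ← res_comp, ← res_comp, ha, hb, res_comp] at h1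
  have h2 := h1.sub hm
  rwa [sub_sub_sub_cancel_right, ← map_sub] at h2

end

/-- The fixed point of the fibre product. -/
theorem exists_point {k : Type u} [Field k] [IsAlgClosed k] {X Y : Scheme.{u}} (q : Y ⟶ X)
    (c : X ⟶ Spec (CommRingCat.of k)) [LocallyOfFiniteType (q ≫ c)] (T : X.Etale) (g : Y ⟶ Y) (hg : g ≫ q = q)
    (y : Y) (hy : IsClosed ({y} : Set Y)) (hgy : g y = y) (t : T.left) (ht : T.hom t = q y) :
    ∃ v : (pullback T.hom q : Scheme.{u}), pmap q T g hg v = v ∧ pullback.snd T.hom q v = y := by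
  let p : Spec (CommRingCat.of k) ⟶ Y := pointOfClosedPoint (q ≫ c) y hy
  have hp : p ≫ q ≫ c = 𝟙 _ := pointOfClosedPoint_comp (q ≫ c) y hy
  have hpy : ∀ z, p z = y := fun z => pointOfClosedPoint_apply (q ≫ c) y hy z
  have hpg : p ≫ g = p := by
    refine ext_of_apply_closedPoint_eq (q ≫ c) ?_ hp ?_
    · rw [Category.assoc, reassoc_of% hg, hp]
    · rw [Scheme.Hom.comp_apply, hpy, hgy]
  have het : Etale T.hom := T.prop
  obtain ⟨l, hl1, -⟩ := Scheme.exists_fac_of_etale_of_isSepClosed T.hom (p ≫ q) t (by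
    rw [ht, Scheme.Hom.comp_apply, hpy])
  let w : Spec (CommRingCat.of k) ⟶ pullback T.hom q := pullback.lift l p hl1
  have hw : w ≫ pmap q T g hg = w := by
    apply pullback.hom_ext
    · rw [Category.assoc, pmap_fst]
    · rw [Category.assoc, pmap_snd, ← Category.assoc, pullback.lift_snd, hpg]
  refine ⟨w (IsLocalRing.closedPoint k), ?_, ?_⟩
  · rw [← Scheme.Hom.comp_apply, hw]
  · rw [← Scheme.Hom.comp_apply, pullback.lift_snd]
    exact hpy _

end Groth.Agent.Sga4h.H276.Inertia
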