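import Groth.Agent.Sga4h.H918.Tens

/-!
# Tensor product with a sheaf having a free generator, on sections

`s ∈ L(W)` a free generator: `m ↦ s ⊗ m`, `M(W) ⟶ (L ⊗ M)(W)` is bijective (`bijective_tmulR`), also locally
(`van_of_tmul`, `exists_tmul`).
-/

set_option autoImplicit false
universe u

open CategoryTheory CategoryTheory.Limits AlgebraicGeometry Opposite TensorProduct

namespace Groth.Agent.Sga4h.H276.TwMod

open Groth.Agent.Etbase Groth.Agent.Etcore Groth.Agent.EtpbcA Groth.Agent.Etcore.LVan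
open Groth.Agent.Sga4h.H918.Gen Groth.Agent.Sga4h.H918.Tens

variable {Λ : Type (u + 1)} [CommRing Λ] {X : Scheme.{u}} {L M : EtModW.Mod Λ X}

/-- `m ↦ s ⊗ m` -/
noncomputable def tmulR {W : X.Etale} (s : EtModW.sect Λ L W) :
    EtModW.sect Λ M W →ₗ[Λ] EtModW.sect Λ (tens L M) W :=
  (toT W).comp (TensorProduct.mk Λ _ _ s)

theorem tmulR_apply {W : X.Etale} (s : EtModW.sect Λ L W) (m : EtModW.sect Λ M W) :
    tmulR s m = tmul s m := rfl

theorem res_tmulR {W V : X.Etale} (g : V ⟶ W) (s : EtModW.sect Λ L W) (m : EtModW.sect Λ M W) :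
    res (tens L M) g (tmulR s m) = tmulR (res L g s) (res M g m) := res_tmul g s m

variable {W : X.Etale} {s : EtModW.sect Λ L W} (hs : IsGen L s)

include hs in
/-- Local injectivity. -/
theorem van_of_tmul (v : W.left) (m : EtModW.sect Λ M W) (h : Van (tens L M) (tmulR s m) v) : Van M m v := by
  obtain ⟨V, c, v', hv, h2⟩ := exists_resT_eq_zero _ v h
  refine ⟨V, c, v', hv, ?_⟩
  have h3 : (res L c s ⊗ₜ[Λ] res M c m) = 0 := h2
  have h4 := congrArg (fun q => TensorProduct.lid Λ _ (TensorProduct.map (val hs c v') LinearMap.id q)) h3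
  simp only [TensorProduct.map_tmul, val_gen, map_zero, TensorProduct.lid_tmul, LinearMap.id_coe, id_eq,
    one_smul] at h4
  exact h4

include hs in
theorem injective_tmulR : Function.Injective (tmulR (M := M) s) := by
  rw [injective_iff_map_eq_zero]
  intro m hm
  refine eq_zero_of_van m fun v => van_of_tmul hs v m ?_
  rw [hm]
  exact Van.zero _

include hs in
/-- Local surjectivity. -/
theorem exists_tmul (t : EtModW.sect Λ (tens L M) W) (v : W.left) :
    ∃ (V : X.Etale) (c : V ⟶ W) (v' : V.left) (m : EtModW.sect Λ M V), c.left v' = v ∧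
      res (tens L M) c t = tmulR (res L c s) m := by
  obtain ⟨V, c, v', x, hv, hx⟩ := exists_toT t v
  suffices h : ∃ (V' : X.Etale) (c' : V' ⟶ V) (v'' : V'.left) (m : EtModW.sect Λ M V'), c'.left v'' = v' ∧
      toT V' (resT c' x) = tmulR (res L (c' ≫ c) s) m by
    obtain ⟨V', c', v'', m, h1, h2⟩ := h
    refine ⟨V', c' ≫ c, v'', m, ?_, ?_⟩
    · change c.left (c'.left v'') = v
      rw [h1, hv]
    · rw [res_comp, hx, res_toT, h2]
  clear hx
  induction x using TensorProduct.induction_on with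
  | zero =>
    refine ⟨V, 𝟙 V, v', 0, rfl, ?_⟩
    rw [map_zero, map_zero, map_zero]
  | tmul a b =>
    obtain ⟨V₁, d, v₁, h1, h2⟩ := val_spec hs c v' a
    refine ⟨V₁, d, v₁, val hs c v' a • res M d b, h1, ?_⟩
    rw [map_sub, sub_eq_zero, map_smul, ← res_comp] at h2
    change toT V₁ (res L d a ⊗ₜ[Λ] res M d b) = toT V₁ (_ ⊗ₜ[Λ] _)
    rw [← h2, TensorProduct.smul_tmul]
  | add a b ha hb =>
    obtain ⟨V₁, c₁, w₁, m₁, h1, h2⟩ := ha
    obtain ⟨V₂, c₂, w₂, m₂, k1, k2⟩ := hb
    obtain ⟨P, p, q, z, hpq, hz1, hz2⟩ := EtSite.exists_pullback c₁ c₂ w₁ w₂ (h1.trans k1.symm)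
    refine ⟨P, p ≫ c₁, z, res M p m₁ + res M q m₂, ?_, ?_⟩
    · change c₁.left (p.left z) = v'
      rw [hz1, h1]
    · have e1 : toT P (resT (p ≫ c₁) a) = tmulR (res L ((p ≫ c₁) ≫ c) s) (res M p m₁) := by
        rw [resT_comp, ← res_toT, h2, res_tmulR, ← res_comp, Category.assoc]
      have e2 : toT P (resT (p ≫ c₁) b) = tmulR (res L ((p ≫ c₁) ≫ c) s) (res M q m₂) := by
        rw [hpq, resT_comp, ← res_toT, k2, res_tmulR, ← res_comp, Category.assoc]
      rw [map_add, map_add, e1, e2, map_add]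

include hs in
/-- The tensor product with a free generator is bijective on sections. -/
theorem bijective_tmulR : Function.Bijective (tmulR (M := M) s) := by
  refine ⟨injective_tmulR hs, fun t => ?_⟩
  obtain ⟨m, hm⟩ := exists_of_local M W
    (fun V g m => res (tens L M) g t = tmulR (res L g s) m)
    (fun V V' g k m h => by
      rw [res_comp, h, res_tmulR, ← res_comp])
    (fun V g m m' h h' => injective_tmulR (hs.res g) (h.symm.trans h'))
    (fun v => by
      obtain ⟨V, c, v', m, h1, h2⟩ := exists_tmul (M := M) hs t v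
      exact ⟨V, c, v', m, h1, h2⟩)
  refine ⟨m, sect_ext' _ fun v => ?_⟩
  obtain ⟨V, g, v', h1, h2⟩ := hm v
  exact ⟨V, g, v', h1, by rw [res_tmulR, ← h2]⟩

end Groth.Agent.Sga4h.H276.TwMod
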