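import Groth.Agent.Sga4h.H919.ConcH
import Groth.Agent.Sga4h.H929.ASC
import Groth.Agent.Sga4h.H918.ConnAlg
import Groth.Agent.Sga4B.ConstLC
import Groth.Prelude.Def_FixPt
import Groth.Agent.Etrest.ModAb
import Groth.Agent.Sga4B.HTools
import Mathlib.RingTheory.DiscreteValuationRing.Basic

/-!
# Sections of `N_p` of unipotent sheaves on a connected scheme whose covering is connected

* `nonempty_H0_constMod` : `H^0(X, Λ) = Λ`, `X` connected;
* `sub_of_unip` : dévissage of the vanishing of `H^0`;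
* `sub_N_const`, `sub_N_unip` : `H^0(X, N_p M) = 0` for `M` unipotent;
* `isDomain_as` : Artin–Schreier coverings at a simple pole.
-/

set_option autoImplicit false
universe u

open CategoryTheory CategoryTheory.Limits AlgebraicGeometry Opposite

namespace Groth.Agent.Sga4h.H276.U0

open Groth.Agent.Sga4h.H919.ConcH Groth.Agent.Etrest.ModAb Groth.Agent.Sga4h.H929.NDef
  Groth.Agent.Sga4h.H929.NSplit Groth.Agent.Sga4h.H929.NExact

/-- Global sections of the constant sheaf. -/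
theorem nonempty_H0_constMod (Λ : Type (u + 1)) [CommRing Λ] (X : Scheme.{u}) [ConnectedSpace X] :
    Nonempty (EtCoh.H X ((ab Λ X).obj (EtModW.constMod Λ X Λ)) 0 ≃+ Λ) := by
  let e0 : (ab Λ X).obj (EtModW.constMod Λ X Λ) ≅ Groth.Agent.Sga4B.ConstLC.LC X Λ :=
    (constIso Λ X).app (ModuleCat.of Λ Λ) ≪≫ Groth.Agent.Sga4B.ConstLC.constIsoLC X Λ
  let e1 : EtCoh.H X ((ab Λ X).obj (EtModW.constMod Λ X Λ)) 0 ≃+
      EtCoh.sect ((ab Λ X).obj (EtModW.constMod Λ X Λ)) (EtCoh.top X) :=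
    Sheaf.H.equiv₀ _ (EtCore.topIsTerminal X)
  let e2 : EtCoh.sect ((ab Λ X).obj (EtModW.constMod Λ X Λ)) (EtCoh.top X) ≃+
      LocallyConstant (EtCoh.top X).left Λ :=
    (((sheafToPresheaf _ _).mapIso e0).app (op (EtCoh.top X))).addCommGroupIsoToAddEquiv
  let e3 : Λ ≃+ LocallyConstant X Λ :=
    AddEquiv.ofBijective
      ({ toFun := fun a => LocallyConstant.const X a
         map_zero' := rfl
         map_add' := fun _ _ => rfl } : Λ →+ LocallyConstant X Λ)
      ⟨fun a b h => DFunLike.congr_fun h (Classical.arbitrary X), fun f => by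
        refine ⟨f (Classical.arbitrary X), ?_⟩
        ext x
        exact f.isLocallyConstant.apply_eq_of_preconnectedSpace (Classical.arbitrary X) x⟩
  exact ⟨e1.trans (e2.trans e3.symm)⟩

theorem sub_H0_iff {X : Scheme.{u}} (F : EtCoh.Ab X) :
    Subsingleton (EtCoh.H X F 0) ↔ ∀ f : EtCoh.const X ℤ ⟶ F, f = 0 := by
  have h := Abelian.Ext.mk₀_bijective (EtCoh.const X ℤ) F
  constructor
  · intro hs f
    exact h.1 (hs.elim (α := EtCoh.H X F 0) _ _)
  · intro hf
    refine ⟨fun x y => ?_⟩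
    obtain ⟨f, rfl⟩ := h.2 x
    obtain ⟨g, rfl⟩ := h.2 y
    rw [hf f, hf g]

theorem sub_of_iso {X : Scheme.{u}} {F G : EtCoh.Ab X} (e : F ≅ G) (h : Subsingleton (EtCoh.H X F 0)) :
    Subsingleton (EtCoh.H X G 0) := by
  rw [sub_H0_iff] at h ⊢
  intro f
  have h1 := h (f ≫ e.inv)
  rw [← cancel_mono e.inv, h1, zero_comp]

/-- The vanishing of `H^0` for unipotent sheaves. -/
theorem sub_of_unip {Λ : Type (u + 1)} [CommRing Λ] {T X : Scheme.{u}} (Θ : EtModW.Mod Λ T ⥤ EtCoh.Ab X)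
    [Θ.Additive] [PreservesFiniteLimits Θ] [PreservesFiniteColimits Θ]
    (h : Subsingleton (EtCoh.H X (Θ.obj (EtModW.constMod Λ T Λ)) 0)) (r : ℕ) (M : EtModW.Mod Λ T)
    (hM : Unip Λ r M) : Subsingleton (EtCoh.H X (Θ.obj M) 0) := by
  induction r generalizing M with
  | zero =>
    rw [sub_H0_iff]
    intro f
    exact (Θ.map_isZero hM).eq_of_tgt _ _
  | succ r ih =>
    obtain ⟨S, h1, ⟨h2⟩, h3, ⟨h4⟩⟩ := hM
    have hS := h1.map_of_exact Θ
    have i1 : Subsingleton (EtCoh.H X (Θ.obj S.X₁) 0) := sub_of_iso (Θ.mapIso h2.symm) h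
    have i3 := ih _ h3
    refine sub_of_iso (Θ.mapIso h4) ?_
    rw [sub_H0_iff] at i1 i3 ⊢
    intro f
    have hm := hS.mono_f
    have hf : f ≫ (S.map Θ).g = 0 := i3 _
    have h5 := hS.exact.lift_f f hf
    rw [← h5]
    exact (congrArg (fun t => t ≫ (S.map Θ).f) (i1 _)).trans zero_comp

section cover

variable {Λ : Type (u + 1)} [CommRing Λ] {X Y : Scheme.{u}} {p : Y ⟶ X} {d : ℕ} (h : FE p d)
  {n : ℕ} (hdn : d.Coprime n) (hn : (n : Λ) = 0) [Finite Λ]

omit [Finite Λ] in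
theorem killedBy_cst {n : ℕ} (hn : (n : Λ) = 0) (F : EtModW.Mod Λ X) : EtCoh.KilledBy n ((ab Λ X).obj F) := by
  intro U s
  have h : ∀ t : F.obj.obj (op U), n • t = 0 := fun t => by
    rw [← Nat.cast_smul_eq_nsmul Λ, hn, zero_smul]
  exact h s

include h hdn hn in
/-- No sections of `N_p Λ`. -/
theorem sub_N_const [ConnectedSpace X] [ConnectedSpace Y] :
    Subsingleton (EtCoh.H X ((N p).obj ((ab Λ X).obj (EtModW.constMod Λ X Λ))) 0) := by
  have := h.fin
  have := h.et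
  obtain ⟨e1⟩ := nonempty_H0_constMod Λ X
  obtain ⟨e2⟩ := nonempty_H0_constMod Λ Y
  have hfin : Finite ((EtCoh.HF X 0).obj ((ab Λ X).obj (EtModW.constMod Λ X Λ))) :=
    Finite.of_equiv _ e1.symm.toEquiv
  have e3 : EtCoh.H X ((EtCoh.push p).obj ((EtCoh.pull p).obj ((ab Λ X).obj (EtModW.constMod Λ X Λ)))) 0 ≃+
      EtCoh.H Y ((EtCoh.pull p).obj ((ab Λ X).obj (EtModW.constMod Λ X Λ))) 0 :=
    Groth.Agent.Sga4B.HTools.HPushExact p _ 0
  have e4 : (EtCoh.pull p).obj ((ab Λ X).obj (EtModW.constMod Λ X Λ)) ≅ (ab Λ Y).obj (EtModW.constMod Λ Y Λ) :=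
    (pullIso Λ p).symm.app _ ≪≫ (ab Λ Y).mapIso (FixPt.pullUnit p)
  have e5 : EtCoh.H Y ((EtCoh.pull p).obj ((ab Λ X).obj (EtModW.constMod Λ X Λ))) 0 ≃+
      EtCoh.H Y ((ab Λ Y).obj (EtModW.constMod Λ Y Λ)) 0 :=
    ((EtCoh.HF Y 0).mapIso e4).addCommGroupIsoToAddEquiv
  have hadd : (EtCoh.HF X 0).Additive := inferInstanceAs (Sheaf.functorH _ 0).Additive
  exact h.subsingleton_N hdn (killedBy_cst hn _) (EtCoh.HF X 0)
    ⟨(e3.trans (e5.trans (e2.trans e1.symm))).toEquiv⟩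

include h hdn hn in
/-- No sections of `N_p M`, `M` unipotent. -/
theorem sub_N_unip [ConnectedSpace X] [ConnectedSpace Y] (r : ℕ) (M : EtModW.Mod Λ X) (hM : Unip Λ r M) :
    Subsingleton (EtCoh.H X ((N p).obj ((ab Λ X).obj M)) 0) := by
  have := h.fin
  have := h.surj
  exact sub_of_unip (ab Λ X ⋙ N p) (sub_N_const h hdn hn) r M hM

end cover

section alg

open IsLocalRing

variable {V : Type u} [CommRing V] [IsDomain V] [IsDiscreteValuationRing V] {F : Type u} [Field F] [Algebra V F]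
  [IsFractionRing V F]

/-- The Artin–Schreier covering of a trait at a simple pole. -/
theorem isDomain_as {w : V} (hw : Irreducible w) {q : ℕ} (hq : 2 ≤ q) :
    IsDomain (LangSh.ASAlg F q (algebraMap V F w)⁻¹) := by
  have h1 : w ∈ maximalIdeal V := (mem_maximalIdeal w).2 hw.not_isUnit
  have h2 : w ∉ maximalIdeal V ^ 2 := by
    intro h
    rw [hw.maximalIdeal_eq, Ideal.span_singleton_pow, Ideal.mem_span_singleton] at h
    obtain ⟨c, hc⟩ := h
    have h3 : w * 1 = w * (w * c) := by rw [mul_one, ← mul_assoc, ← sq]; exact hc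
    exact hw.not_isUnit (IsUnit.of_mul_eq_one _ (mul_left_cancel₀ hw.ne_zero h3).symm)
  have h3 := Groth.Agent.Sga4h.H918.ConnAlg.irreducible_as_inv F h1 h2 q hq
  exact AdjoinRoot.isDomain_of_prime h3.prime

end alg

end Groth.Agent.Sga4h.H276.U0
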